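import Mathlib
import Cfsg.Agent.Lib.ZStar.Main
import Cfsg.Agent.Lib.Transfer.Fusion
import Cfsg.Agent.Lib.Involutions.ThompsonTransfer
import Cfsg.Agent.Lib.Blocks.BrauerHomocyclic
import Cfsg.Agent.Lib.IndexFourCentre.Abelian

/-!
Fusion tools for perfect groups in which the solvable normal subgroups are central.
-/

set_option autoImplicit false
set_option linter.all false

namespace Cfsg.Agent.SemiRankOne

open Subgroup
open scoped commutatorElement

universe u

variable {G : Type u} [Group G]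

/-- Every solvable normal subgroup is central. -/
def SolvCentral (G : Type u) [Group G] : Prop :=
  ∀ N : Subgroup G, N.Normal → Group.IsSolvable N → N ≤ center G

/-- If the commutators of `u` are central in a perfect group then so is `u`. -/
theorem central_of_commutators (hperf : commutator G = ⊤) {u : G}
    (h : ∀ g : G, u * g * u⁻¹ * g⁻¹ ∈ center G) : u ∈ center G := by
  let φ : G →* center G :=
    { toFun := fun g => ⟨u * g * u⁻¹ * g⁻¹, h g⟩
      map_one' := Subtype.ext (by simp)
      map_mul' := fun g k => Subtype.ext (by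
        show u * (g * k) * u⁻¹ * (g * k)⁻¹ = (u * g * u⁻¹ * g⁻¹) * (u * k * u⁻¹ * k⁻¹)
        have hc := mem_center_iff.1 (h k) g
        calc u * (g * k) * u⁻¹ * (g * k)⁻¹
            = u * g * u⁻¹ * (u * k * u⁻¹ * k⁻¹) * g⁻¹ := by group
          _ = u * g * u⁻¹ * g⁻¹ * (g * (u * k * u⁻¹ * k⁻¹)) * g⁻¹ := by group
          _ = (u * g * u⁻¹ * g⁻¹) * (u * k * u⁻¹ * k⁻¹) := by rw [hc]; group) }
  letI : CommGroup (center G) :=
    { (inferInstance : Group (center G)) with
      mul_comm := fun a b => Subtype.ext (mem_center_iff.1 b.2 a) }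
  refine mem_center_iff.2 fun g => ?_
  have hg := Abelianization.commutator_subset_ker φ (hperf.symm ▸ mem_top g)
  exact ((mul_inv_eq_iff_eq_mul.1 (mul_inv_eq_one.1 (congrArg Subtype.val hg))).symm)

variable [Finite G]

/-- The solvable radical bound on a normal subgroup of odd order. -/
theorem oddCore_le_center (hFT : ∀ N : Subgroup G, Odd (Nat.card N) → Group.IsSolvable N)
    (hsol : SolvCentral G) : Cfsg.oddCore G ≤ center G :=
  hsol _ ZStar.Main.oddCore_normal (hFT _ InvChar.Core.odd_card_oddCore)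

/-- An isolated involution is central. -/
theorem central_of_isolated (hperf : commutator G = ⊤) (hO : Cfsg.oddCore G ≤ center G) {u : G}
    (hu : orderOf u = 2) (hiso : ∀ g : G, Commute u (g * u * g⁻¹) → g * u * g⁻¹ = u) : u ∈ center G :=
  central_of_commutators hperf fun g => hO (ZStar.Main.commutator_mem_oddCore ⟨hu, hiso⟩ g)

variable (P : Sylow 2 G)

/-- Fusion into a central element of the Sylow subgroup can be chosen to move a centralizer into it. -/
theorem move {g u v : G} (hv : v ∈ (P : Subgroup G)) (hvc : ∀ w ∈ (P : Subgroup G), w * v = v * w)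
    (hgu : g * u * g⁻¹ = v) :
    ∃ h : G, h * u * h⁻¹ = v ∧ ∀ w ∈ (P : Subgroup G), Commute w u → h * w * h⁻¹ ∈ (P : Subgroup G) := by
  haveI : Fact (Nat.Prime 2) := ⟨Nat.prime_two⟩
  set L := centralizer ({v} : Set G) with hL
  have hPL : (P : Subgroup G) ≤ L := fun w hw => mem_centralizer_singleton_iff.2 (hvc w hw)
  set W := ((P : Subgroup G) ⊓ centralizer ({u} : Set G)).map (MulAut.conj g).toMonoidHom with hW
  have hWp : IsPGroup 2 W := (P.2.to_le inf_le_left).map _
  have hWL : W ≤ L := by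
    rintro _ ⟨w, hw, rfl⟩
    refine mem_centralizer_singleton_iff.2 ?_
    show g * w * g⁻¹ * v = v * (g * w * g⁻¹)
    rw [← hgu, show g * w * g⁻¹ * (g * u * g⁻¹) = g * (w * u) * g⁻¹ by group,
      mem_centralizer_singleton_iff.1 hw.2]
    group
  obtain ⟨k, hk, hkW⟩ := Transfer.Fusion.exists_conj_le_of_isPGroup P hPL (B := W) hWp hWL
  refine ⟨k * g, ?_, fun w hw hwu => ?_⟩
  · rw [show k * g * u * (k * g)⁻¹ = k * (g * u * g⁻¹) * k⁻¹ by group, hgu,
      mem_centralizer_singleton_iff.1 hk, mul_inv_cancel_right]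
  · refine hkW ⟨g * w * g⁻¹, ⟨w, mem_inf.2 ⟨hw, mem_centralizer_singleton_iff.2 hwu.eq⟩, rfl⟩, ?_⟩
    show k * (g * w * g⁻¹) * k⁻¹ = _
    group

/-- Thompson transfer. -/
theorem transfer (hperf : commutator G = ⊤) (N : Subgroup G) (hN : N ≤ (P : Subgroup G)) {v : G}
    (hv : v ∈ (P : Subgroup G)) (hvN : v ∉ N) (hidx : ∀ g ∈ (P : Subgroup G), g ∈ N ∨ g * v ∈ N)
    {u : G} (hu : orderOf u = 2) : ∃ g : G, g * u * g⁻¹ ∈ N := by
  refine Involutions.ThompsonTransfer.exists_conj_mem (fun K hK => ?_) P N hN ?_ u hu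
  · haveI := Subgroup.normal_of_index_eq_two hK
    haveI : IsCyclic (G ⧸ K) := isCyclic_of_prime_card (p := 2) (by rw [← Subgroup.index, hK])
    letI := IsCyclic.commGroup (α := G ⧸ K)
    have hle := Abelianization.commutator_subset_ker (QuotientGroup.mk' K)
    rw [QuotientGroup.ker_mk', hperf, top_le_iff] at hle
    rw [hle, Subgroup.index_top] at hK
    omega
  · refine index_eq_two_iff.2 ⟨⟨v, hv⟩, fun b => ?_⟩
    simp only [mem_subgroupOf, Subgroup.coe_mul]
    rcases hidx b b.2 with h | h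
    · exact Or.inr ⟨h, fun h' => hvN ((N.mul_mem_cancel_left h).1 h')⟩
    · exact Or.inl ⟨h, fun h' => hvN ((N.mul_mem_cancel_left h').1 h)⟩

/-- Central elements of a Sylow subgroup swapped by its normalizer are equal. -/
theorem swap_eq {n e v : G} (hn : n ∈ normalizer ((P : Subgroup G) : Set G))
    (he : ∀ w ∈ (P : Subgroup G), w * e = e * w)
    (h1 : n * e * n⁻¹ = v) (h2 : n * v * n⁻¹ = e) : e = v := by
  haveI : Fact (Nat.Prime 2) := ⟨Nat.prime_two⟩
  obtain ⟨k, m, hm2, hnm⟩ := Nat.exists_eq_pow_mul_and_not_dvd (orderOf_pos n).ne' 2 (by norm_num)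
  obtain ⟨i, hi⟩ : Odd m := Nat.odd_iff.2 (by omega)
  have hd : IsPGroup 2 (zpowers (n ^ m)) := by
    refine IsPGroup.of_card_dvd_pow (n := k) ?_
    rw [Nat.card_zpowers]
    exact orderOf_dvd_of_pow_eq_one (by rw [← pow_mul, mul_comm, ← hnm, pow_orderOf_eq_one])
  have hle : zpowers (n ^ m) ≤ normalizer ((P : Subgroup G) : Set G) := zpowers_le.2 (pow_mem hn m)
  have hmem : n ^ m ∈ (P : Subgroup G) := by
    rw [← P.3 (hd.to_sup_of_normal_right' P.2 hle) le_sup_right]
    exact mem_sup_left (mem_zpowers _)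
  have h3 : n ^ m * e * (n ^ m)⁻¹ = v := by
    have hsq : Commute (n * n) e := mul_inv_eq_iff_eq_mul.1 (by
      rw [show n * n * e * (n * n)⁻¹ = n * (n * e * n⁻¹) * n⁻¹ by group, h1, h2])
    rw [hi, pow_succ', pow_mul, pow_two,
      show n * (n * n) ^ i * e * (n * (n * n) ^ i)⁻¹ = n * ((n * n) ^ i * e * ((n * n) ^ i)⁻¹) * n⁻¹ by group,
      (hsq.pow_left i).eq, mul_inv_cancel_right, h1]
  rw [he _ hmem, mul_inv_cancel_right] at h3
  exact h3

/-- A central element of a Sylow subgroup which is central in the perfect group lies in every `D` with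
abelian quotient. -/
theorem central_mem (hperf : commutator G = ⊤) {z : G} (hz : z ∈ (P : Subgroup G)) (hzc : z ∈ center G)
    (D : Subgroup G) (hD : ∀ x ∈ (P : Subgroup G), ∀ y ∈ (P : Subgroup G), ⁅x, y⁆ ∈ D) : z ∈ D := by
  haveI : Fact (Nat.Prime 2) := ⟨Nat.prime_two⟩
  have key : ∀ (k : ℕ) (g₀ : G), g₀⁻¹ * z ^ k * g₀ ∈ (P : Subgroup G) →
      g₀⁻¹ * z ^ k * g₀ = z ^ k := fun k g₀ _ => by
    rw [mul_assoc, ← mem_center_iff.1 (pow_mem hzc k) g₀, inv_mul_cancel_left]
  have h1 : MonoidHom.transfer (Abelianization.of : (P : Subgroup G) →* Abelianization (P : Subgroup G))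
      z = 1 :=
    Abelianization.commutator_subset_ker _ (hperf.symm ▸ mem_top z)
  rw [MonoidHom.transfer_eq_pow _ z key] at h1
  have h2 := (QuotientGroup.eq_one_iff _).1 h1
  have h3 : z ^ (P : Subgroup G).index ∈ D := (commutator_le.2 hD) (by
    rw [← Subgroup.map_subtype_commutator (P : Subgroup G)]
    exact ⟨_, h2, rfl⟩)
  obtain ⟨k, hk⟩ := P.2 ⟨z, hz⟩
  have hk' : z ^ 2 ^ k = 1 := congrArg Subtype.val hk
  obtain ⟨m, hm⟩ := exists_pow_eq_self_of_coprime (x := z) (n := (P : Subgroup G).index)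
    (Nat.Coprime.coprime_dvd_right (orderOf_dvd_of_pow_eq_one hk')
      (Nat.Coprime.pow_right k (Nat.coprime_two_right.2 (Nat.odd_iff.2 (by
        have := P.not_dvd_index
        omega)))))
  exact hm ▸ pow_mem h3 m

/-- Abelian Sylow 2-subgroups with an element of order four and three involutions: impossible. -/
theorem no_abelian (hperf : commutator G = ⊤)
    (hab : ∀ v ∈ (P : Subgroup G), ∀ w ∈ (P : Subgroup G), v * w = w * v) {x e : G}
    (hx : x ∈ (P : Subgroup G)) (hx4 : orderOf x = 4) (he : e ∈ (P : Subgroup G)) (he2 : e * e = 1)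
    (he1 : e ≠ 1) (hne : e ≠ x * x)
    (hinv : ∀ v ∈ (P : Subgroup G), v * v = 1 → v ∈ ({1, x * x, e, e * (x * x)} : Set G)) : False := by
  classical
  haveI : Fact (Nat.Prime 2) := ⟨Nat.prime_two⟩
  have hx2 : x * x ≠ 1 := fun h => by
    have : orderOf x ∣ 2 := orderOf_dvd_of_pow_eq_one (by rw [pow_two, h])
    rw [hx4] at this
    omega
  have hxx : x * x * (x * x) = 1 := by
    rw [show x * x * (x * x) = x ^ 4 by simp [pow_succ, mul_assoc], ← hx4, pow_orderOf_eq_one]
  set z := x * x with hz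
  have hzP : z ∈ (P : Subgroup G) := mul_mem hx hx
  obtain ⟨n, hn⟩ := IsPGroup.iff_card.1 P.2
  by_cases h16 : 16 ∣ Nat.card (P : Subgroup G)
  · -- Brauer
    set O := Cfsg.oddCore G with hO
    haveI : O.Normal := ZStar.Main.oddCore_normal
    have hOodd : Odd (Nat.card O) := InvChar.Core.odd_card_oddCore
    set π := QuotientGroup.mk' O with hπ
    have hinj : ∀ v ∈ (P : Subgroup G), π v = 1 → v = 1 := by
      intro v hv h
      have h1 : orderOf v ∣ Nat.card O := Subgroup.orderOf_dvd_natCard O ((QuotientGroup.eq_one_iff v).1 h)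
      have h2 : orderOf v ∣ 2 ^ n := hn ▸ Subgroup.orderOf_dvd_natCard _ hv
      have h3 : Nat.Coprime (2 ^ n) (Nat.card O) :=
        Nat.Coprime.pow_left n (Nat.coprime_two_left.2 hOodd)
      exact orderOf_eq_one_iff.1 (Nat.dvd_one.1 (h3 ▸ Nat.dvd_gcd h2 h1))
    set Q := Sylow.mapSurjective (QuotientGroup.mk'_surjective O) P with hQ
    have hQP : (Q : Subgroup (G ⧸ O)) = (P : Subgroup G).map π := rfl
    let ι : (P : Subgroup G) →* (Q : Subgroup (G ⧸ O)) :=
      (π.comp (P : Subgroup G).subtype).codRestrict _ fun v => hQP ▸ ⟨v, v.2, rfl⟩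
    have hι : Function.Bijective ι := by
      constructor
      · rw [injective_iff_map_eq_one]
        exact fun v h => Subtype.ext (hinj v v.2 (congrArg Subtype.val h))
      · rintro ⟨q, hq⟩
        rw [hQP] at hq
        obtain ⟨v, hv, rfl⟩ := hq
        exact ⟨⟨v, hv⟩, rfl⟩
    let f := MulEquiv.ofBijective ι hι
    have hQab : ∀ v ∈ (Q : Subgroup (G ⧸ O)), ∀ w ∈ (Q : Subgroup (G ⧸ O)), v * w = w * v := by
      intro v hv w hw
      rw [hQP] at hv hw
      obtain ⟨v, hv, rfl⟩ := hv
      obtain ⟨w, hw, rfl⟩ := hw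
      rw [← map_mul, ← map_mul, hab v hv w hw]
    have h3 : Nat.card {v : (Q : Subgroup (G ⧸ O)) // v ^ 2 = 1 ∧ v ≠ 1} = 3 := by
      rw [← Nat.card_congr (f.toEquiv.subtypeEquiv (p := fun v : (P : Subgroup G) => v ^ 2 = 1 ∧ v ≠ 1)
        fun v => by simp [← map_pow])]
      rw [show Nat.card {v : (P : Subgroup G) // v ^ 2 = 1 ∧ v ≠ 1} =
        ({v : (P : Subgroup G) | v ^ 2 = 1 ∧ v ≠ 1} : Set (P : Subgroup G)).ncard from Nat.card_coe_set_eq _]
      have hez : e * z * (e * z) = 1 := by
        rw [show e * z * (e * z) = e * (z * e) * z by group, ← hab e he z hzP,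
          show e * (e * z) * z = (e * e) * (z * z) by group, he2, hxx, one_mul]
      have hset : {v : (P : Subgroup G) | v ^ 2 = 1 ∧ v ≠ 1} =
          {⟨z, hzP⟩, ⟨e, he⟩, ⟨e * z, mul_mem he hzP⟩} := by
        ext ⟨v, hv⟩
        simp only [Set.mem_setOf_eq, Set.mem_insert_iff, Set.mem_singleton_iff, Subtype.ext_iff,
          SubmonoidClass.coe_pow, Subgroup.coe_one, ne_eq, pow_two]
        constructor
        · rintro ⟨h2, h1⟩
          rcases hinv v hv h2 with h | h | h | h
          exacts [absurd h h1, Or.inl h, Or.inr (Or.inl h), Or.inr (Or.inr h)]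
        · rintro (rfl | rfl | rfl)
          exacts [⟨hxx, hx2⟩, ⟨he2, he1⟩, ⟨hez, fun h => hne (by
            rw [eq_inv_of_mul_eq_one_left h, inv_eq_of_mul_eq_one_right hxx])⟩]
      rw [hset, Set.ncard_eq_three]
      refine ⟨_, _, _, fun h => hne (congrArg Subtype.val h).symm, fun h => he1 ?_, fun h => hx2 ?_, rfl⟩
      · exact mul_eq_right.1 (congrArg Subtype.val h).symm
      · exact left_eq_mul.1 (congrArg Subtype.val h)
    haveI := Fintype.ofFinite (G ⧸ O)
    obtain ⟨hnorm, -, hidx⟩ := Blocks.BrauerHomocyclic.normal_sylow Q hQab h3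
      (by rwa [← Nat.card_congr f.toEquiv]) (f ⟨x, hx⟩) (by
        rw [← map_pow, map_ne_one_iff _ f.injective]
        exact fun h => hx2 (by have := congrArg Subtype.val h; simpa [pow_two] using this))
      (by
        rw [← map_pow, show (⟨x, hx⟩ : (P : Subgroup G)) ^ 4 = 1 from Subtype.ext (by
          rw [SubmonoidClass.coe_pow, ← hx4, pow_orderOf_eq_one]; rfl), map_one])
      (fun N hN hNo => by
        haveI := hN
        have hle : N.comap π ≤ O := InvChar.Core.le_oddCore inferInstance (by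
          rw [hπ, Cores.card_comap_mk']; exact hOodd.mul hNo)
        rw [eq_bot_iff]
        intro q hq
        obtain ⟨g, rfl⟩ := QuotientGroup.mk'_surjective O q
        exact Subgroup.mem_bot.2 ((QuotientGroup.eq_one_iff g).2 (hle hq)))
    haveI := hnorm
    have hq : commutator (G ⧸ O) = ⊤ := by
      rw [← top_le_iff, ← Subgroup.map_top_of_surjective π (QuotientGroup.mk'_surjective O), ← hperf]
      exact Subgroup.map_le_iff_le_comap.2 (by
        rw [_root_.commutator_def, _root_.commutator_def, ← Subgroup.map_le_iff_le_comap,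
          Subgroup.map_commutator]
        exact Subgroup.commutator_mono le_top le_top)
    have hQtop : (Q : Subgroup (G ⧸ O)) = ⊤ := by
      rcases hidx with h | h
      · exact Subgroup.index_eq_one.1 h
      · haveI : IsCyclic ((G ⧸ O) ⧸ (Q : Subgroup (G ⧸ O))) :=
          isCyclic_of_prime_card (p := 3) (hp := ⟨Nat.prime_three⟩) (by rw [← Subgroup.index, h])
        letI := IsCyclic.commGroup (α := (G ⧸ O) ⧸ (Q : Subgroup (G ⧸ O)))
        have hle := Abelianization.commutator_subset_ker (QuotientGroup.mk' (Q : Subgroup (G ⧸ O)))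
        rw [QuotientGroup.ker_mk', hq, top_le_iff] at hle
        exact hle
    have hbot : commutator (G ⧸ O) = ⊥ := by
      rw [_root_.commutator_def, eq_bot_iff, Subgroup.commutator_le]
      intro v _ w _
      rw [Subgroup.mem_bot]
      exact commutatorElement_eq_one_iff_mul_comm.2
        (hQab v (hQtop ▸ mem_top v) w (hQtop ▸ mem_top w))
    refine hx2 (hinj z hzP ?_)
    exact Subgroup.mem_bot.1 (hbot ▸ hq.symm ▸ mem_top (π z))
  · -- order eight: `z` is the only nontrivial square
    have hcard : Nat.card (P : Subgroup G) ≤ 8 := by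
      rw [hn] at h16 ⊢
      by_contra h
      refine h16 ?_
      have h4 : 4 ≤ n := by
        by_contra h'
        exact h ((Nat.pow_le_pow_right (by norm_num) (show n ≤ 3 by omega)).trans (by norm_num))
      exact (show 16 = 2 ^ 4 by norm_num) ▸ pow_dvd_pow 2 h4
    refine hx2 (IndexFourCentre.Abelian.fixed_eq_one P hab hperf hzP fun m hm => ?_)
    have hsq : ∀ v ∈ (P : Subgroup G), v * v = 1 ∨ v * v = z := by
      intro v hv
      by_cases hvx : v ∈ zpowers x
      · obtain ⟨i, rfl⟩ := mem_zpowers_iff.1 hvx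
        rcases Int.even_or_odd i with ⟨j, rfl⟩ | ⟨j, rfl⟩
        · left
          rw [← zpow_add, show j + j + (j + j) = (4 : ℤ) * j by ring, zpow_mul, zpow_ofNat,
            ← hx4, pow_orderOf_eq_one, one_zpow]
        · right
          rw [← zpow_add, show 2 * j + 1 + (2 * j + 1) = (4 : ℤ) * j + 2 by ring, zpow_add, zpow_mul,
            zpow_ofNat, ← hx4, pow_orderOf_eq_one, one_zpow, one_mul, zpow_two]
      · -- `P = ⟨x⟩ ∪ e ⟨x⟩`
        have hex : e ∉ zpowers x := by
          intro h
          obtain ⟨i, hi⟩ := mem_zpowers_iff.1 h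
          rw [← zpow_mod_orderOf, hx4] at hi
          rcases (show i % 4 = 0 ∨ i % 4 = 1 ∨ i % 4 = 2 ∨ i % 4 = 3 by omega) with j | j | j | j <;>
            simp only [Nat.cast_ofNat, j] at hi
          · exact he1 (hi.symm.trans (zpow_zero x))
          · rw [zpow_one] at hi; rw [← hi] at he2; exact hx2 he2
          · exact hne (hi.symm.trans (zpow_two x))
          · refine hx2 ?_
            rw [← hi] at he2
            have h3 : x ^ (3 : ℤ) * x ^ (3 : ℤ) = x * x * (x * x) * (x * x) := by
              simp [pow_succ, mul_assoc]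
            rwa [h3, hxx, one_mul] at he2
        have hR : (zpowers x).relIndex (P : Subgroup G) = 2 := by
          have h1 := ((zpowers x).subgroupOf (P : Subgroup G)).card_mul_index
          rw [Nat.card_congr (subgroupOfEquivOfLe (zpowers_le.2 hx)).toEquiv, Nat.card_zpowers, hx4] at h1
          have h2 : (zpowers x).relIndex (P : Subgroup G) ≠ 1 := fun h =>
            hex (Subgroup.relIndex_eq_one.1 h he)
          change 4 * (zpowers x).relIndex (P : Subgroup G) = _ at h1
          obtain h0 | h0 := (Nat.eq_zero_or_pos ((zpowers x).relIndex (P : Subgroup G)))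
          · rw [h0, mul_zero] at h1; exact absurd h1.symm Nat.card_pos.ne'
          · omega
        obtain ⟨v0, hv0⟩ := Subgroup.index_eq_two_iff.1 hR
        have hev : v * e ∈ zpowers x := by
          have h1 := hv0 ⟨v, hv⟩
          have h2 := hv0 ⟨e, he⟩
          have h3 := Subgroup.mul_mem_iff_of_index_two hR (a := ⟨v, hv⟩) (b := ⟨e, he⟩)
          simp only [mem_subgroupOf, Subgroup.coe_mul] at h3
          exact h3.2 (iff_of_false hvx hex)
        obtain ⟨i, hi⟩ := mem_zpowers_iff.1 hev
        have hvi : v = x ^ i * e := by rw [hi, mul_assoc, he2, mul_one]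
        have h4 : v * v = x ^ i * x ^ i := by
          rw [hvi, show x ^ i * e * (x ^ i * e) = x ^ i * (e * x ^ i) * e by group,
            hab e he _ (zpow_mem hx i), show x ^ i * (x ^ i * e) * e = x ^ i * x ^ i * (e * e) by group,
            he2, mul_one]
        rw [h4]
        rcases Int.even_or_odd i with ⟨j, rfl⟩ | ⟨j, rfl⟩
        · left
          rw [← zpow_add, show j + j + (j + j) = (4 : ℤ) * j by ring, zpow_mul, zpow_ofNat,
            ← hx4, pow_orderOf_eq_one, one_zpow]
        · right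
          rw [← zpow_add, show 2 * j + 1 + (2 * j + 1) = (4 : ℤ) * j + 2 by ring, zpow_add, zpow_mul,
            zpow_ofNat, ← hx4, pow_orderOf_eq_one, one_zpow, one_mul, zpow_two]
    rcases hsq _ ((mem_normalizer_iff.1 hm x).1 hx) with h | h
    · exfalso
      rw [show m * x * m⁻¹ * (m * x * m⁻¹) = m * z * m⁻¹ by rw [hz]; group] at h
      exact hx2 (conj_eq_one_iff.1 h)
    · calc m * z * m⁻¹ = m * x * m⁻¹ * (m * x * m⁻¹) := by rw [hz]; group
        _ = z := h

end Cfsg.Agent.SemiRankOne
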