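import Mathlib
import Cfsg.Agent.Lib.SemiRankOne.Basic

/-!
A Sylow 2-subgroup with a four-group `{1, z, e, ez}` and dihedral or quaternion quotient: the basic
calculations.
-/

set_option autoImplicit false
set_option linter.all false

namespace Cfsg.Agent.SemiRankOne

open Subgroup

universe u

variable {G : Type u} [Group G]

/-- The four-group of two commuting involutions. -/
def four (z e : G) : Set G := {1, z, e, e * z}

/-- `c` generates a cyclic subgroup of index two modulo the four-group, centralising it, and `r` inverts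
it; `twin` records a second element of the coset of `r`, of opposite parity, behaving like `r`. -/
structure Shape (P : Subgroup G) (c r e z : G) (q : ℕ) : Prop where
  cP : c ∈ P
  rP : r ∈ P
  eP : e ∈ P
  q_two : ∃ n : ℕ, q = 2 ^ n
  top : c ^ (2 * q) = z
  z2 : z * z = 1
  z1 : z ≠ 1
  e2 : e * e = 1
  e1 : e ≠ 1
  ez : e ≠ z
  ce : Commute c e
  zc : ∀ w ∈ P, w * z = z * w
  form : ∀ s ∈ P, ∃ i : ℤ, ∃ g ∈ four z e, s = c ^ i * g ∨ s = c ^ i * g * r
  out : ∀ i : ℤ, ∀ g ∈ four z e, r ≠ c ^ i * g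
  rc : ∃ f ∈ four z e, r * c * r⁻¹ = c⁻¹ * f
  re : r * e * r⁻¹ = e ∨ r * e * r⁻¹ = e * z
  rr : r * r ∈ four z e ∨ (Even q ∧ ∃ g ∈ four z e, r * r = c ^ q * g)
  twin : ∃ i : ℤ, ∃ g ∈ four z e, Odd i ∧ (c ^ i * g * r * (c ^ i * g * r) = 1 ↔ r * r = 1)

theorem zpow_of_sq {u : G} (hu : u * u = 1) (i : ℤ) :
    (Even i → u ^ i = 1) ∧ (Odd i → u ^ i = u) := by
  constructor
  · rintro ⟨j, rfl⟩
    rw [← two_mul, zpow_mul, zpow_two, hu, one_zpow]
  · rintro ⟨j, rfl⟩
    rw [zpow_add, zpow_mul, zpow_two, hu, one_zpow, one_mul, zpow_one]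

theorem orderOf_of_top {u z : G} {q : ℕ} (hq : ∃ n : ℕ, q = 2 ^ n) (hz2 : z * z = 1) (hz1 : z ≠ 1)
    (hu : u ^ (2 * q) = z) : orderOf u = 4 * q := by
  obtain ⟨n, rfl⟩ := hq
  haveI : Fact (Nat.Prime 2) := ⟨Nat.prime_two⟩
  rw [show 4 * 2 ^ n = 2 ^ (n + 1 + 1) by ring]
  refine orderOf_eq_prime_pow ?_ ?_
  · rw [show 2 ^ (n + 1) = 2 * 2 ^ n by ring, hu]; exact hz1
  · rw [show 2 ^ (n + 1 + 1) = 2 * 2 ^ n * 2 by ring, pow_mul, hu, pow_two, hz2]

/-- A cyclic group generated by `u` has `z` as its only involution. -/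
theorem eq_top_of_sq {u z : G} {q : ℕ} (hq : ∃ n : ℕ, q = 2 ^ n) (hz2 : z * z = 1) (hz1 : z ≠ 1)
    (hu : u ^ (2 * q) = z) (i : ℤ) (hi : u ^ i * u ^ i = 1) : u ^ i = 1 ∨ u ^ i = z := by
  have ho := orderOf_of_top hq hz2 hz1 hu
  rw [← zpow_add, ← orderOf_dvd_iff_zpow_eq_one, ho] at hi
  obtain ⟨j, hj⟩ := hi
  have : i = ((2 * q : ℕ) : ℤ) * j := by push_cast at hj ⊢; linarith
  rw [this, zpow_mul, zpow_natCast, hu]
  rcases Int.even_or_odd j with h | h
  · exact Or.inl ((zpow_of_sq hz2 j).1 h)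
  · exact Or.inr ((zpow_of_sq hz2 j).2 h)

namespace Shape

variable {P : Subgroup G} {c r e z : G} {q : ℕ} (h : Shape P c r e z q)
include h

theorem q_pos : 0 < q := by
  obtain ⟨n, rfl⟩ := h.q_two
  positivity

theorem q_cases : q = 1 ∨ Even q := by
  obtain ⟨n, rfl⟩ := h.q_two
  rcases n with _ | n
  · exact Or.inl rfl
  · exact Or.inr ⟨2 ^ n, by ring⟩

theorem order_c : orderOf c = 4 * q := orderOf_of_top h.q_two h.z2 h.z1 h.top

theorem cz : Commute c z := h.top ▸ Commute.self_pow c _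

theorem ze : Commute z e := (h.zc e h.eP).symm

theorem zP : z ∈ P := h.top ▸ pow_mem h.cP _

theorem four_mul {a b : G} (ha : a ∈ four z e) (hb : b ∈ four z e) : a * b ∈ four z e := by
  have h1 : z * e = e * z := h.ze.eq
  have h2 : z * (e * z) = e := by rw [← mul_assoc, h1, mul_assoc, h.z2, mul_one]
  have h3 : e * (e * z) = z := by rw [← mul_assoc, h.e2, one_mul]
  have h4 : e * z * z = e := by rw [mul_assoc, h.z2, mul_one]
  have h5 : e * z * e = z := by rw [mul_assoc, h1, h3]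
  have h6 : e * z * (e * z) = 1 := by rw [mul_assoc, h2, h.e2]
  show a * b = 1 ∨ a * b = z ∨ a * b = e ∨ a * b = e * z
  rcases ha with k | k | k | k <;> rcases hb with k' | k' | k' | k' <;> rw [k, k'] <;>
    simp only [one_mul, mul_one, h.z2, h.e2, h1, h2, h3, h4, h5, h6, true_or, or_true]

theorem four_sq {a : G} (ha : a ∈ four z e) : a * a = 1 := by
  rcases ha with rfl | rfl | rfl | rfl
  exacts [one_mul 1, h.z2, h.e2, by rw [h.ze.mul_mul_mul_comm, h.e2, h.z2, one_mul]]

theorem four_inv {a : G} (ha : a ∈ four z e) : a⁻¹ = a := inv_eq_of_mul_eq_one_right (h.four_sq ha)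

theorem four_c {a : G} (ha : a ∈ four z e) : Commute c a := by
  rcases ha with rfl | rfl | rfl | rfl
  exacts [Commute.one_right _, h.cz, h.ce, h.ce.mul_right h.cz]

theorem four_comm {a b : G} (ha : a ∈ four z e) (hb : b ∈ four z e) : Commute a b := by
  have h1 := h.four_sq (h.four_mul ha hb)
  show a * b = b * a
  calc a * b = (a * b)⁻¹ := (inv_eq_of_mul_eq_one_right h1).symm
    _ = b * a := by rw [mul_inv_rev, h.four_inv ha, h.four_inv hb]

theorem four_zpow {a : G} (ha : a ∈ four z e) (i : ℤ) : a ^ i ∈ four z e := by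
  rcases Int.even_or_odd i with k | k
  · exact Or.inl ((zpow_of_sq (h.four_sq ha) i).1 k)
  · rwa [(zpow_of_sq (h.four_sq ha) i).2 k]

theorem four_mem {a : G} (ha : a ∈ four z e) : a ∈ P := by
  rcases ha with rfl | rfl | rfl | rfl
  exacts [one_mem _, h.zP, h.eP, mul_mem h.eP h.zP]

theorem conj_r {a : G} (ha : a ∈ four z e) : r * a * r⁻¹ ∈ four z e := by
  have hz : r * z * r⁻¹ = z := by rw [h.zc r h.rP, mul_inv_cancel_right]
  rcases ha with rfl | rfl | rfl | rfl
  · exact Or.inl (by group)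
  · exact Or.inr (Or.inl hz)
  · rcases h.re with k | k
    exacts [Or.inr (Or.inr (Or.inl k)), Or.inr (Or.inr (Or.inr k))]
  · rw [show r * (e * z) * r⁻¹ = r * e * r⁻¹ * (r * z * r⁻¹) by group, hz]
    rcases h.re with k | k <;> rw [k]
    · exact Or.inr (Or.inr (Or.inr rfl))
    · rw [mul_assoc, h.z2, mul_one]; exact Or.inr (Or.inr (Or.inl rfl))

theorem conj_four_of_central (hre : r * e * r⁻¹ = e) {a : G} (ha : a ∈ four z e) : r * a * r⁻¹ = a := by
  have hz : r * z * r⁻¹ = z := by rw [h.zc r h.rP, mul_inv_cancel_right]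
  rcases ha with rfl | rfl | rfl | rfl
  · group
  · exact hz
  · exact hre
  · rw [show r * (e * z) * r⁻¹ = r * e * r⁻¹ * (r * z * r⁻¹) by group, hz, hre]

theorem conj_pow {f : G} (hf : f ∈ four z e) (hrc : r * c * r⁻¹ = c⁻¹ * f) (i : ℤ) :
    r * c ^ i * r⁻¹ = c ^ (-i) * f ^ i := by
  rw [← conj_zpow, hrc, ((h.four_c hf).inv_left).mul_zpow, inv_zpow']

/-- The square of an element outside the abelian subgroup of index two. -/
theorem sq_out {f g : G} (hf : f ∈ four z e) (hrc : r * c * r⁻¹ = c⁻¹ * f) (hg : g ∈ four z e) (i : ℤ) :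
    c ^ i * g * r * (c ^ i * g * r) = g * (r * g * r⁻¹) * f ^ i * (r * r) := by
  have hg' := h.conj_r hg
  calc c ^ i * g * r * (c ^ i * g * r)
      = c ^ i * g * (r * c ^ i * r⁻¹) * (r * g * r⁻¹) * (r * r) := by group
    _ = c ^ i * (g * c ^ (-i)) * (f ^ i * (r * g * r⁻¹)) * (r * r) := by
        rw [h.conj_pow hf hrc]; group
    _ = g * (r * g * r⁻¹) * f ^ i * (r * r) := by
        rw [← ((h.four_c hg).zpow_left (-i)).eq, (h.four_comm (h.four_zpow hf i) hg').eq]; group

theorem sq_in {g : G} (hg : g ∈ four z e) (i : ℤ) : c ^ i * g * (c ^ i * g) = c ^ i * c ^ i := by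
  rw [((h.four_c hg).zpow_left i).symm.mul_mul_mul_comm, h.four_sq hg, mul_one]

/-- An involution of `⟨c⟩` times the four-group lies in the four-group. -/
theorem inv_in {g : G} (hg : g ∈ four z e) (i : ℤ) (h2 : c ^ i * g * (c ^ i * g) = 1) :
    c ^ i * g ∈ four z e := by
  rw [h.sq_in hg] at h2
  rcases eq_top_of_sq h.q_two h.z2 h.z1 h.top i h2 with k | k <;> rw [k]
  · rw [one_mul]; exact hg
  · exact h.four_mul (Or.inr (Or.inl rfl)) hg

/-- `r²` centralises `c`, so `r` fixes the four-group part of its action. -/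
theorem f_fixed {f : G} (hf : f ∈ four z e) (hrc : r * c * r⁻¹ = c⁻¹ * f) : r * f * r⁻¹ = f := by
  have hrr : Commute (r * r) c := by
    rcases h.rr with k | ⟨-, g, hg, k⟩
    · exact (h.four_c k).symm
    · rw [k]; exact (Commute.pow_self c q).mul_left (h.four_c hg).symm
  have h1 : r * (r * c * r⁻¹) * r⁻¹ = c := by
    rw [show r * (r * c * r⁻¹) * r⁻¹ = r * r * c * (r * r)⁻¹ by group, hrr.eq, mul_inv_cancel_right]
  rw [hrc, show r * (c⁻¹ * f) * r⁻¹ = (r * c * r⁻¹)⁻¹ * (r * f * r⁻¹) by group, hrc, mul_inv_rev,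
    inv_inv, h.four_inv hf, ← (h.four_c hf).eq] at h1
  have h2 : f * (r * f * r⁻¹) = 1 := mul_left_cancel (a := c) (by rw [← mul_assoc, h1, mul_one])
  rw [eq_inv_of_mul_eq_one_right h2, h.four_inv hf]

/-- With `r` moving `e`, the fixed points of `r` in the four-group are `1` and `z`. -/
theorem fixed_cases (hre : r * e * r⁻¹ = e * z) {a : G} (ha : a ∈ four z e) (hfix : r * a * r⁻¹ = a) :
    a = 1 ∨ a = z := by
  rcases ha with k | k | k | k
  · exact Or.inl k
  · exact Or.inr k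
  · rw [k, hre] at hfix; exact absurd (mul_eq_left.1 hfix) h.z1
  · rw [k, show r * (e * z) * r⁻¹ = r * e * r⁻¹ * (r * z * r⁻¹) by group, hre, h.zc r h.rP,
      mul_inv_cancel_right] at hfix
    exact absurd (mul_eq_left.1 hfix) h.z1

/-- A `2q`-th power lies in `⟨z⟩`. -/
theorem pow_top (hq : Even q ∨ r * e * r⁻¹ = e * z) {s : G} (hs : s ∈ P) :
    s ^ (2 * q) = 1 ∨ s ^ (2 * q) = z := by
  obtain ⟨f, hf, hrc⟩ := h.rc
  obtain ⟨i, g, hg, k | k⟩ := h.form s hs
  · have : s ^ (2 * q) = z ^ i := by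
      rw [k, ((h.four_c hg).zpow_left i).mul_pow, pow_mul g, pow_two, h.four_sq hg, one_pow, mul_one,
        ← zpow_natCast, ← zpow_mul, mul_comm, zpow_mul, zpow_natCast, h.top]
    rcases Int.even_or_odd i with k' | k'
    · exact Or.inl (this.trans ((zpow_of_sq h.z2 i).1 k'))
    · exact Or.inr (this.trans ((zpow_of_sq h.z2 i).2 k'))
  · rw [pow_mul, pow_two, k, h.sq_out hf hrc hg]
    set w := g * (r * g * r⁻¹) * f ^ i with hw
    have hwf : w ∈ four z e := h.four_mul (h.four_mul hg (h.conj_r hg)) (h.four_zpow hf i)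
    by_cases heven : Even q
    · obtain ⟨m, hm⟩ := heven
      have hq1 : ∀ a ∈ four z e, a ^ q = 1 := fun a ha => by
        rw [hm, ← two_mul, pow_mul, pow_two, h.four_sq ha, one_pow]
      rcases h.rr with k' | ⟨-, g0, hg0, k'⟩
      · exact Or.inl (hq1 _ (h.four_mul hwf k'))
      · rw [k', show w * (c ^ q * g0) = c ^ q * (w * g0) by
          rw [← mul_assoc, ← ((h.four_c hwf).pow_left q).eq, mul_assoc],
          ((h.four_c (h.four_mul hwf hg0)).pow_left q).mul_pow, hq1 _ (h.four_mul hwf hg0), mul_one, ← pow_mul]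
        rw [show q * q = 2 * q * m by rw [hm]; ring, pow_mul, h.top]
        rcases Nat.even_or_odd m with ⟨j, hj⟩ | ⟨j, hj⟩
        · left; rw [hj, ← two_mul, pow_mul, pow_two, h.z2, one_pow]
        · right; rw [hj, pow_add, pow_mul, pow_two, h.z2, one_pow, one_mul, pow_one]
    · have hre := hq.resolve_left heven
      have hq1 : q = 1 := h.q_cases.resolve_right heven
      have hrr : r * r ∈ four z e := h.rr.resolve_right fun k' => heven k'.1
      rw [hq1, pow_one]
      have hzz : ∀ a b : G, (a = 1 ∨ a = z) → (b = 1 ∨ b = z) → a * b = 1 ∨ a * b = z := by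
        rintro a b (rfl | rfl) (rfl | rfl) <;> simp [h.z2]
      refine hzz _ _ (hzz _ _ ?_ ?_) (h.fixed_cases hre hrr (by group))
      · rcases hg with k' | k' | k' | k' <;> rw [k']
        · left; group
        · left; rw [h.zc r h.rP, mul_inv_cancel_right, h.z2]
        · right; rw [hre, ← mul_assoc, h.e2, one_mul]
        · right
          rw [show r * (e * z) * r⁻¹ = r * e * r⁻¹ * (r * z * r⁻¹) by group, hre, h.zc r h.rP,
            mul_inv_cancel_right, mul_assoc e z z, h.z2, mul_one, mul_assoc, h.ze.eq, ← mul_assoc, h.e2, one_mul]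
      · rcases Int.even_or_odd i with k' | k'
        · exact Or.inl ((zpow_of_sq (h.four_sq hf) i).1 k')
        · rw [(zpow_of_sq (h.four_sq hf) i).2 k']
          exact h.fixed_cases hre hf (h.f_fixed hf hrc)

/-- Outside the abelian subgroup of index two, involutions force `r² ∈ four`. -/
theorem inv_out {g : G} (hg : g ∈ four z e) (i : ℤ) (h2 : c ^ i * g * r * (c ^ i * g * r) = 1) :
    r * r ∈ four z e := by
  obtain ⟨f, hf, hrc⟩ := h.rc
  rw [h.sq_out hf hrc hg] at h2
  have hwf : g * (r * g * r⁻¹) * f ^ i ∈ four z e :=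
    h.four_mul (h.four_mul hg (h.conj_r hg)) (h.four_zpow hf i)
  rw [eq_inv_of_mul_eq_one_right h2, h.four_inv hwf]
  exact hwf

/-- If `r² ∉ four`, the involutions lie in the four-group. -/
theorem invol_four (hrr : r * r ∉ four z e) {s : G} (hs : s ∈ P) (h2 : s * s = 1) : s ∈ four z e := by
  obtain ⟨i, g, hg, k | k⟩ := h.form s hs
  · rw [k] at h2 ⊢; exact h.inv_in hg i h2
  · rw [k] at h2; exact absurd (h.inv_out hg i h2) hrr

end Shape

end Cfsg.Agent.SemiRankOne
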