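import Mathlib
import Cfsg.Agent.Lib.SemiRankOne.Shape
import Cfsg.Agent.GenA.CycPrime.Basic

/-!
No perfect group has a Sylow 2-subgroup of this shape.
-/

set_option autoImplicit false
set_option linter.all false

namespace Cfsg.Agent.SemiRankOne

open Subgroup
open scoped commutatorElement

universe u

variable {G : Type u} [Group G]

/-- Two involutions of a cyclic group are equal. -/
theorem invol_unique [Finite G] {d u v : G} (hu : u ∈ zpowers d) (hv : v ∈ zpowers d) (hu2 : u * u = 1)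
    (hv2 : v * v = 1) (hu1 : u ≠ 1) (hv1 : v ≠ 1) : u = v := by
  have ho : ∀ a : G, a * a = 1 → a ≠ 1 → orderOf a = 2 := fun a h2 h1 =>
    orderOf_eq_prime (by rw [pow_two, h2]) h1
  have he := GenA.CycPrime.eq_of_card_eq (C := zpowers d) inferInstance (zpowers_le.2 hu) (zpowers_le.2 hv)
    (by rw [Nat.card_zpowers, Nat.card_zpowers, ho u hu2 hu1, ho v hv2 hv1])
  obtain ⟨i, hi⟩ := mem_zpowers_iff.1 (he.le (mem_zpowers u))
  rcases Int.even_or_odd i with k | k
  · rw [(zpow_of_sq hv2 i).1 k] at hi; exact absurd hi.symm hu1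
  · rw [(zpow_of_sq hv2 i).2 k] at hi; exact hi.symm

/-- The subgroup `⟨c, r⟩` when `r` inverts `c` and squares into `⟨c⟩`. -/
theorem exists_dihedral {c r : G} (hrc : r * c * r⁻¹ = c⁻¹) (hrr : r * r ∈ zpowers c) :
    ∃ N : Subgroup G, ∀ g, g ∈ N ↔ ∃ i : ℤ, g = c ^ i ∨ g = c ^ i * r := by
  have hconj : ∀ i : ℤ, r * c ^ i = c ^ (-i) * r := fun i => by
    rw [← mul_inv_eq_iff_eq_mul, ← conj_zpow, hrc, inv_zpow']
  obtain ⟨m, hm⟩ := mem_zpowers_iff.1 hrr
  refine ⟨{ carrier := {g | ∃ i : ℤ, g = c ^ i ∨ g = c ^ i * r}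
            one_mem' := ⟨0, Or.inl (zpow_zero c).symm⟩
            mul_mem' := ?_
            inv_mem' := ?_ }, fun g => Iff.rfl⟩
  · rintro _ _ ⟨i, rfl | rfl⟩ ⟨j, rfl | rfl⟩
    · exact ⟨i + j, Or.inl (zpow_add c i j).symm⟩
    · exact ⟨i + j, Or.inr (by rw [zpow_add, mul_assoc])⟩
    · exact ⟨i + -j, Or.inr (by rw [mul_assoc, hconj, zpow_add, mul_assoc])⟩
    · exact ⟨i + -j + m, Or.inl (by
        rw [zpow_add, zpow_add, hm, mul_assoc (c ^ i) r, ← mul_assoc r, hconj]
        simp only [mul_assoc])⟩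
  · rintro _ ⟨i, rfl | rfl⟩
    · exact ⟨-i, Or.inl (zpow_neg c i).symm⟩
    · refine ⟨i + m, Or.inr ?_⟩
      refine inv_eq_of_mul_eq_one_right ?_
      calc c ^ i * r * (c ^ (i + m) * r) = c ^ i * (r * c ^ (i + m)) * r := by group
        _ = c ^ i * c ^ (-(i + m)) * (r * r) := by rw [hconj]; group
        _ = 1 := by
          rw [← hm, ← zpow_add, ← zpow_add, show i + -(i + m) + m = 0 by ring, zpow_zero]

namespace Shape

variable [Finite G] {P : Sylow 2 G} {c r e z : G} {q : ℕ} (h : Shape (P : Subgroup G) c r e z q)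
include h

theorem exists_fix (hq : Even q ∨ r * e * r⁻¹ = e * z) {g : G}
    (hg : g * c * g⁻¹ ∈ (P : Subgroup G)) : g * z * g⁻¹ = z := by
  have h1 : (g * c * g⁻¹) ^ (2 * q) = g * z * g⁻¹ := by rw [← MulAut.conj_apply, ← map_pow, h.top]; rfl
  rcases h.pow_top hq hg with k | k
  · rw [h1] at k; exact absurd (conj_eq_one_iff.1 k) h.z1
  · rw [h1] at k; exact k

theorem e_not_z (hq : Even q ∨ r * e * r⁻¹ = e * z) (g : G) : g * e * g⁻¹ ≠ z := by
  intro hg
  obtain ⟨k, hk, hkP⟩ := move P h.zP h.zc hg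
  have h1 := h.exists_fix hq (hkP c h.cP h.ce)
  exact h.ez ((MulAut.conj k).injective (hk.trans h1.symm))

/-- The dihedral quotient with `r` moving `e`. -/
theorem no_moving_dihedral (hperf : commutator G = ⊤) (hre : r * e * r⁻¹ = e * z)
    (hrr : r * r ∈ four z e) : False := by
  obtain ⟨f, hf, hrc⟩ := h.rc
  have hf' : f = 1 ∨ f = z := h.fixed_cases hre hf (h.f_fixed hf hrc)
  have hrr' : r * r = 1 ∨ r * r = z := h.fixed_cases hre hrr (by group)
  have hrz : r * z = z * r := h.zc r h.rP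
  -- normalised generators
  obtain ⟨c', hc'P, hc'top, hc'e, hc'rc, hc'c⟩ : ∃ c' : G, c' ∈ (P : Subgroup G) ∧ c' ^ (2 * q) = z ∧
      Commute c' e ∧ r * c' * r⁻¹ = c'⁻¹ ∧ (c = c' ∨ c = c' * e) := by
    rcases hf' with k | k <;> rw [k] at hrc
    · exact ⟨c, h.cP, h.top, h.ce, by rw [hrc, mul_one], Or.inl rfl⟩
    · refine ⟨c * e, mul_mem h.cP h.eP, ?_, (h.ce).mul_left (Commute.refl e), ?_, Or.inr ?_⟩
      · rw [h.ce.mul_pow, h.top, pow_mul e, pow_two, h.e2, one_pow, mul_one]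
      · rw [show r * (c * e) * r⁻¹ = r * c * r⁻¹ * (r * e * r⁻¹) by group, hrc, hre, mul_inv_rev,
          inv_eq_of_mul_eq_one_right h.e2, mul_assoc, ← mul_assoc z e z, h.ze.eq, mul_assoc e z z, h.z2,
          mul_one, (h.ce.inv_left).eq]
      · rw [mul_assoc, h.e2, mul_one]
  obtain ⟨r', hr'P, hr'z, hr're, hr'rc, hr'r⟩ : ∃ r' : G, r' ∈ (P : Subgroup G) ∧ r' * r' = z ∧
      e * r' = z * (r' * e) ∧ r' * c' * r'⁻¹ = c'⁻¹ ∧ (r = r' ∨ r = r' * e) := by
    have her : e * r = z * (r * e) := by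
      have h1 : r * e = e * z * r := mul_inv_eq_iff_eq_mul.1 hre
      rw [h1, ← mul_assoc, ← mul_assoc, h.ze.eq, mul_assoc e z z, h.z2, mul_one]
    rcases hrr' with k | k
    · refine ⟨r * e, mul_mem h.rP h.eP, ?_, ?_, ?_, Or.inr (by rw [mul_assoc, h.e2, mul_one])⟩
      · rw [mul_assoc r e (r * e), ← mul_assoc e r e, her,
          show r * (z * (r * e) * e) = (r * z) * r * (e * e) by group, hrz, mul_assoc z r r, k, h.e2, mul_one,
          mul_one]
      · rw [← mul_assoc e r e, her, show z * (r * e) * e = z * (r * e * e) by group]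
      · rw [show r * e * c' * (r * e)⁻¹ = r * (e * c' * e⁻¹) * r⁻¹ by group, ← hc'e.eq,
          mul_inv_cancel_right, hc'rc]
    · exact ⟨r, h.rP, k, her, hc'rc, Or.inl rfl⟩
  obtain ⟨N, hN⟩ := exists_dihedral hr'rc (hr'z ▸ hc'top ▸ pow_mem (mem_zpowers c') _)
  have hNP : N ≤ (P : Subgroup G) := fun g hg => by
    rcases (hN g).1 hg with ⟨i, rfl | rfl⟩
    exacts [zpow_mem hc'P i, mul_mem (zpow_mem hc'P i) hr'P]
  have hcN : ∀ i : ℤ, c' ^ i ∈ N := fun i => (hN _).2 ⟨i, Or.inl rfl⟩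
  have hrN : r' ∈ N := (hN _).2 ⟨0, Or.inr (by simp)⟩
  have hzN : z ∈ N := hc'top ▸ zpow_natCast c' (2 * q) ▸ hcN _
  have hsqN : ∀ g ∈ N, g * g = 1 → g = 1 ∨ g = z := by
    intro g hg h2
    rcases (hN g).1 hg with ⟨i, rfl | rfl⟩
    · exact eq_top_of_sq h.q_two h.z2 h.z1 hc'top i h2
    · exfalso
      rw [show c' ^ i * r' * (c' ^ i * r') = c' ^ i * (r' * c' ^ i * r'⁻¹) * (r' * r') by group, ← conj_zpow,
        hr'rc, inv_zpow', ← zpow_add, add_neg_cancel, zpow_zero, one_mul, hr'z] at h2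
      exact h.z1 h2
  have heN : e ∉ N := fun k => by
    rcases hsqN e k h.e2 with k' | k'
    exacts [h.e1 k', h.ez k']
  -- every element of `P` lies in `N` or `N e`
  let U : Set G := {g | g ∈ N ∨ g * e ∈ N}
  have hUN : ∀ n ∈ N, ∀ g ∈ U, n * g ∈ U := fun n hn g hg => by
    rcases hg with k | k
    · exact Or.inl (mul_mem hn k)
    · exact Or.inr (by rw [mul_assoc]; exact mul_mem hn k)
  have hUe : ∀ g ∈ U, g * e ∈ U := fun g hg => by
    rcases hg with k | k
    · exact Or.inr (by rw [mul_assoc, h.e2, mul_one]; exact k)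
    · exact Or.inl k
  have hUz : ∀ g ∈ U, g * z ∈ U := fun g hg => by
    rcases hg with k | k
    · exact Or.inl (mul_mem k hzN)
    · refine Or.inr ?_
      rw [mul_assoc, h.ze.eq, ← mul_assoc]
      exact mul_mem k hzN
  have hUr : ∀ g ∈ U, g * r' ∈ U := fun g hg => by
    rcases hg with k | k
    · exact Or.inl (mul_mem k hrN)
    · refine Or.inr ?_
      have h1 : g * r' * e = g * e * (z * r') := by
        rw [show g * e * (z * r') = g * (e * z) * r' by group, ← h.ze.eq,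
          show g * (z * e) * r' = g * z * (e * r') by group, hr're,
          show g * z * (z * (r' * e)) = g * (z * z) * (r' * e) by group, h.z2]
        group
      rw [h1]
      exact mul_mem k (mul_mem hzN hrN)
  have hUr₀ : ∀ g ∈ U, g * r ∈ U := fun g hg => by
    rcases hr'r with k | k <;> rw [k]
    · exact hUr g hg
    · rw [← mul_assoc]; exact hUe _ (hUr g hg)
  have hUc : ∀ i : ℤ, c ^ i ∈ U := fun i => by
    rcases hc'c with k | k <;> rw [k]
    · exact Or.inl (hcN i)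
    · rw [hc'e.mul_zpow]
      rcases Int.even_or_odd i with k' | k'
      · rw [(zpow_of_sq h.e2 i).1 k', mul_one]; exact Or.inl (hcN i)
      · rw [(zpow_of_sq h.e2 i).2 k']; exact hUe _ (Or.inl (hcN i))
  have hUg : ∀ g ∈ four z e, ∀ a ∈ U, a * g ∈ U := by
    rintro g (rfl | rfl | rfl | rfl) a ha
    · rwa [mul_one]
    · exact hUz a ha
    · exact hUe a ha
    · rw [← mul_assoc]; exact hUz _ (hUe a ha)
  have hidx : ∀ g ∈ (P : Subgroup G), g ∈ N ∨ g * e ∈ N := by
    intro s hs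
    obtain ⟨i, g, hg, k | k⟩ := h.form s hs <;> rw [k]
    exacts [hUg g hg _ (hUc i), hUr₀ _ (hUg g hg _ (hUc i))]
  obtain ⟨g, hg⟩ := transfer P hperf N hNP h.eP heN hidx (orderOf_eq_prime (by rw [pow_two, h.e2]) h.e1)
  rcases hsqN _ hg (by rw [show g * e * g⁻¹ * (g * e * g⁻¹) = g * (e * e) * g⁻¹ by group, h.e2]; group) with k | k
  · exact h.e1 (conj_eq_one_iff.1 k)
  · exact h.e_not_z (Or.inr hre) g k

/-- Conjugates of `z` in `P` and isolation. -/
theorem isolated_of_class {u : G} (hu : u ∈ (P : Subgroup G)) (hu2 : u * u = 1)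
    (hcl : ∀ g : G, g * u * g⁻¹ ∈ (P : Subgroup G) → g * u * g⁻¹ = u) :
    ∀ g : G, Commute u (g * u * g⁻¹) → g * u * g⁻¹ = u := by
  intro g hg
  haveI : Fact (Nat.Prime 2) := ⟨Nat.prime_two⟩
  set v := g * u * g⁻¹ with hv
  have hv2 : v * v = 1 := by
    rw [hv, show g * u * g⁻¹ * (g * u * g⁻¹) = g * (u * u) * g⁻¹ by group, hu2]; group
  let W : Subgroup G := Subgroup.closure {u, v}
  have hW : IsPGroup 2 W := by
    have hcomm : ∀ x ∈ ({u, v} : Set G), ∀ y ∈ ({u, v} : Set G), x * y = y * x := by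
      rintro x (rfl | rfl) y (rfl | rfl)
      exacts [rfl, hg.eq, hg.eq.symm, rfl]
    letI := Subgroup.isMulCommutative_closure hcomm
    rintro ⟨x, hx⟩
    refine ⟨1, Subtype.ext ?_⟩
    show x ^ 2 ^ 1 = 1
    rw [pow_one, pow_two]
    induction hx using Subgroup.closure_induction with
    | mem y hy => rcases hy with rfl | rfl; exacts [hu2, hv2]
    | one => exact one_mul 1
    | mul y w hy hw h1 h2 =>
      have hc : y * w = w * y :=
        congrArg Subtype.val ((Subgroup.isMulCommutative_closure hcomm).is_comm.comm (⟨y, hy⟩ : W) ⟨w, hw⟩)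
      rw [(show Commute w y from hc.symm).mul_mul_mul_comm y w, h1, h2, one_mul]
    | inv y _ h1 => rw [← mul_inv_rev, h1, inv_one]
  obtain ⟨R, hR⟩ := hW.exists_le_sylow
  obtain ⟨k, hk⟩ := MulAction.exists_smul_eq G R P
  have hmem : ∀ x ∈ W, k * x * k⁻¹ ∈ (P : Subgroup G) := fun x hx => hk ▸ ⟨x, hR hx, rfl⟩
  have h1 := hcl k (hmem u (Subgroup.subset_closure (Or.inl rfl)))
  have h2 := hmem v (Subgroup.subset_closure (Or.inr rfl))
  rw [hv, show k * (g * u * g⁻¹) * k⁻¹ = k * g * u * (k * g)⁻¹ by group] at h2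
  have h3 := hcl _ h2
  refine (MulAut.conj k).injective ?_
  show k * v * k⁻¹ = k * u * k⁻¹
  rw [h1, hv, show k * (g * u * g⁻¹) * k⁻¹ = k * g * u * (k * g)⁻¹ by group, h3]

/-- The quaternion quotient with `r` moving `e`. -/
theorem no_moving_quaternion (hperf : commutator G = ⊤) (hsol : SolvCentral G)
    (hFT : ∀ N : Subgroup G, Odd (Nat.card N) → Group.IsSolvable N)
    (hFT' : ∀ {Q : Type u} [Group Q] [Finite Q], Odd (Nat.card Q) → Group.IsSolvable Q)
    (hre : r * e * r⁻¹ = e * z) (hrr : r * r ∉ four z e) : False := by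
  classical
  haveI : Fact (Nat.Prime 2) := ⟨Nat.prime_two⟩
  have hO := oddCore_le_center hFT hsol
  have hnotz := h.e_not_z (Or.inr hre)
  have hez : ∀ g : G, g * (e * z) * g⁻¹ ≠ z := fun g hg => hnotz (g * r) (by
    rw [show g * r * e * (g * r)⁻¹ = g * (r * e * r⁻¹) * g⁻¹ by group, hre, hg])
  have hzc : ∀ g : G, g * z * g⁻¹ ∈ (P : Subgroup G) → g * z * g⁻¹ = z := by
    intro g hg
    rcases h.invol_four hrr hg (by
      rw [show g * z * g⁻¹ * (g * z * g⁻¹) = g * (z * z) * g⁻¹ by group, h.z2]; group) with k | k | k | k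
    · exact absurd (conj_eq_one_iff.1 k) h.z1
    · exact k
    · exact absurd (show g⁻¹ * e * g⁻¹⁻¹ = z by rw [← k]; group) (hnotz g⁻¹)
    · exact absurd (show g⁻¹ * (e * z) * g⁻¹⁻¹ = z by rw [← k]; group) (hez g⁻¹)
  have hzZ : z ∈ center G := central_of_isolated hperf hO (orderOf_eq_prime (by rw [pow_two, h.z2]) h.z1)
    (h.isolated_of_class h.zP h.z2 hzc)
  have hzg : ∀ g : G, g * z = z * g := fun g => mem_center_iff.1 hzZ g
  set Z := zpowers z with hZ
  haveI hZn : Z.Normal := ⟨fun n hn g => by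
    obtain ⟨i, rfl⟩ := mem_zpowers_iff.1 hn
    rw [← conj_zpow, hzg g, mul_inv_cancel_right]
    exact zpow_mem (mem_zpowers z) i⟩
  have hZmem : ∀ a ∈ Z, a = 1 ∨ a = z := fun a ha => by
    obtain ⟨i, rfl⟩ := mem_zpowers_iff.1 ha
    rcases Int.even_or_odd i with k | k
    exacts [Or.inl ((zpow_of_sq h.z2 i).1 k), Or.inr ((zpow_of_sq h.z2 i).2 k)]
  set π := QuotientGroup.mk' Z with hπ
  have hπ1 : ∀ a, π a = 1 ↔ a ∈ Z := fun a => QuotientGroup.eq_one_iff a
  have hπe : π e ≠ 1 := fun k => by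
    rcases hZmem e ((hπ1 e).1 k) with k' | k'
    exacts [h.e1 k', h.ez k']
  have hiso : Cfsg.IsIsolatedInvolution (π e) := by
    refine ⟨orderOf_eq_prime (by rw [pow_two, ← map_mul, h.e2, map_one]) hπe, fun q' hq' => ?_⟩
    obtain ⟨g, rfl⟩ := QuotientGroup.mk'_surjective Z q'
    rw [← map_inv, ← map_mul, ← map_mul] at hq' ⊢
    set v := g * e * g⁻¹ with hv
    have hv2 : v * v = 1 := by
      rw [hv, show g * e * g⁻¹ * (g * e * g⁻¹) = g * (e * e) * g⁻¹ by group, h.e2]; group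
    -- `e` and `v` generate a 2-group
    set d := e * v with hd
    have hd4 : d ^ 4 = 1 := by
      have h1 : d * d ∈ Z := by
        rw [← hπ1, hd, map_mul, map_mul]
        have hc' : Commute (π v) (π e) := hq'.symm
        rw [hc'.mul_mul_mul_comm, ← map_mul, ← map_mul, h.e2, hv2, map_one, one_mul]
      rw [show d ^ 4 = (d * d) * (d * d) by simp [pow_succ, mul_assoc]]
      rcases hZmem _ h1 with k | k <;> rw [k]
      exacts [one_mul 1, h.z2]
    have hdp : IsPGroup 2 (zpowers d) := IsPGroup.of_card_dvd_pow (n := 2) (by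
      rw [Nat.card_zpowers]; exact orderOf_dvd_of_pow_eq_one hd4)
    have hep : IsPGroup 2 (zpowers e) := IsPGroup.of_card_dvd_pow (n := 1) (by
      rw [Nat.card_zpowers]; exact orderOf_dvd_of_pow_eq_one (by rw [pow_one, pow_two, h.e2]))
    have hn : zpowers e ≤ normalizer (zpowers d : Set G) := by
      refine zpowers_le.2 ?_
      rw [mem_normalizer_iff_map_conj_eq, MonoidHom.map_zpowers]
      show zpowers (e * d * e⁻¹) = zpowers d
      rw [show e * d * e⁻¹ = d⁻¹ by
        rw [hd, mul_inv_rev, inv_eq_of_mul_eq_one_right hv2, inv_eq_of_mul_eq_one_right h.e2, ← mul_assoc,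
          h.e2, one_mul], zpowers_inv]
    obtain ⟨R, hR⟩ := (hep.to_sup_of_normal_right' hdp hn).exists_le_sylow
    obtain ⟨k, hk⟩ := MulAction.exists_smul_eq G R P
    have heR : k * e * k⁻¹ ∈ (P : Subgroup G) := hk ▸ ⟨e, hR (mem_sup_left (mem_zpowers e)), rfl⟩
    have hvR : k * v * k⁻¹ ∈ (P : Subgroup G) := hk ▸ ⟨v, hR (by
      have h5 : e⁻¹ * d = v := by rw [hd]; group
      rw [← h5]
      exact mul_mem (mem_sup_left (inv_mem (mem_zpowers e))) (mem_sup_right (mem_zpowers d))), rfl⟩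
    have hcl : ∀ a : G, a * e * a⁻¹ ∈ (P : Subgroup G) → a * e * a⁻¹ = e ∨ a * e * a⁻¹ = e * z := by
      intro a ha
      rcases h.invol_four hrr ha (by
        rw [show a * e * a⁻¹ * (a * e * a⁻¹) = a * (e * e) * a⁻¹ by group, h.e2]; group) with j | j | j | j
      · exact absurd (conj_eq_one_iff.1 j) h.e1
      · exact absurd j (hnotz a)
      exacts [Or.inl j, Or.inr j]
    have h1 := hcl k heR
    rw [hv, show k * (g * e * g⁻¹) * k⁻¹ = k * g * e * (k * g)⁻¹ by group] at hvR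
    have h2 := hcl _ hvR
    have hkv : k * v * k⁻¹ = k * g * e * (k * g)⁻¹ := by rw [hv]; group
    have hve : v = e ∨ v = e * z := by
      have hkz : k * (e * z) * k⁻¹ = k * e * k⁻¹ * z := by
        rw [show k * (e * z) * k⁻¹ = k * e * (z * k⁻¹) by group, ← hzg k⁻¹]; group
      rcases h1 with j | j <;> rcases h2 with j' | j'
      · exact Or.inl ((MulAut.conj k).injective (hkv.trans (j'.trans j.symm)))
      · exact Or.inr ((MulAut.conj k).injective (hkv.trans (j'.trans (by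
          show _ = k * (e * z) * k⁻¹
          rw [hkz, j]))))
      · exact Or.inr ((MulAut.conj k).injective (hkv.trans (j'.trans (by
          show _ = k * (e * z) * k⁻¹
          rw [hkz, j, mul_assoc, h.z2, mul_one]))))
      · exact Or.inl ((MulAut.conj k).injective (hkv.trans (j'.trans j.symm)))
    rcases hve with j | j <;> rw [j]
    rw [map_mul, (hπ1 z).2 (mem_zpowers z), mul_one]
  set N := (Cfsg.oddCore (G ⧸ Z)).comap π with hN
  haveI : (Cfsg.oddCore (G ⧸ Z)).Normal := ZStar.Main.oddCore_normal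
  have hNs : Group.IsSolvable N := by
    haveI : Group.IsSolvable (Cfsg.oddCore (G ⧸ Z)) := hFT' InvChar.Core.odd_card_oddCore
    let φ : N →* Cfsg.oddCore (G ⧸ Z) := (π.comp N.subtype).codRestrict _ fun n => n.2
    haveI : Group.IsSolvable Z :=
      Group.isSolvable_of_comm (fun a b => Subtype.ext (setLike_mul_comm a.2 b.2))
    refine Group.isSolvable_of_ker_le_range (Subgroup.inclusion (show Z ≤ N from fun a ha => ?_)) φ ?_
    · rw [hN, Subgroup.mem_comap, (hπ1 a).2 ha]; exact one_mem _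
    · intro n hn
      exact ⟨⟨n, (hπ1 _).1 (congrArg Subtype.val hn)⟩, Subtype.ext rfl⟩
  have hNc : N ≤ center G := hsol N inferInstance hNs
  have hec : e ∈ center G := central_of_commutators hperf fun g => hNc (by
    rw [hN, Subgroup.mem_comap]
    simp only [map_mul, map_inv]
    exact ZStar.Main.commutator_mem_oddCore hiso (π g))
  rw [mem_center_iff.1 hec r, mul_inv_cancel_right] at hre
  exact h.z1 (left_eq_mul.1 hre)

end Shape

end Cfsg.Agent.SemiRankOne
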