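import Mathlib
import Cfsg.Agent.Lib.SemiRankOne.Core

/-!
No perfect group has a Sylow 2-subgroup of this shape: the four-group is central in it.
-/

set_option autoImplicit false
set_option linter.all false

namespace Cfsg.Agent.SemiRankOne

open Subgroup
open scoped commutatorElement

universe u

variable {G : Type u} [Group G] [Finite G]

namespace Shape

variable {P : Sylow 2 G} {c r e z : G} {q : ℕ} (h : Shape (P : Subgroup G) c r e z q)
include h

theorem four_central (hre : r * e * r⁻¹ = e) {a : G} (ha : a ∈ four z e) :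
    ∀ w ∈ (P : Subgroup G), w * a = a * w := by
  have hra : Commute r a := mul_inv_eq_iff_eq_mul.1 (h.conj_four_of_central hre ha)
  intro w hw
  obtain ⟨i, g, hg, rfl | rfl⟩ := h.form w hw
  · exact (((h.four_c ha).zpow_left i).mul_left (h.four_comm hg ha)).eq
  · exact ((((h.four_c ha).zpow_left i).mul_left (h.four_comm hg ha)).mul_left hra).eq

/-- Commutators of the Sylow subgroup lie in `⟨c⁻² f⟩`. -/
theorem comm_mem (hre : r * e * r⁻¹ = e) {f : G} (hf : f ∈ four z e) (hrc : r * c * r⁻¹ = c⁻¹ * f) :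
    ∀ v ∈ (P : Subgroup G), ∀ w ∈ (P : Subgroup G), ⁅v, w⁆ ∈ zpowers (c * c * f) := by
  set M : G → Prop := fun m => ∃ i : ℤ, ∃ g ∈ four z e, m = c ^ i * g
  have hMc : ∀ m n : G, M m → M n → Commute m n := by
    rintro _ _ ⟨i, g, hg, rfl⟩ ⟨j, k, hk, rfl⟩
    exact (((Commute.refl c).zpow_zpow i j).mul_right ((h.four_c hk).zpow_left i)).mul_left
      ((((h.four_c hg).zpow_left j).symm).mul_right (h.four_comm hg hk))
  have hMφ : ∀ m : G, M m → M (r * m * r⁻¹) ∧ m * (r * m * r⁻¹)⁻¹ ∈ zpowers (c * c * f) := by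
    rintro _ ⟨i, g, hg, rfl⟩
    have e1 : r * (c ^ i * g) * r⁻¹ = c ^ (-i) * (f ^ i * g) := by
      rw [show r * (c ^ i * g) * r⁻¹ = r * c ^ i * r⁻¹ * (r * g * r⁻¹) by group,
        h.conj_four_of_central hre hg, h.conj_pow hf hrc, mul_assoc]
    refine ⟨⟨-i, f ^ i * g, h.four_mul (h.four_zpow hf i) hg, e1⟩, mem_zpowers_iff.2 ⟨i, ?_⟩⟩
    rw [e1, ((h.four_c hf).mul_left (h.four_c hf)).mul_zpow, (Commute.refl c).mul_zpow, mul_inv_rev,
      mul_inv_rev, ← zpow_neg f, ← zpow_neg c, neg_neg]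
    have hfi : f ^ i = f ^ (-i) := by rw [zpow_neg, h.four_inv (h.four_zpow hf i)]
    rw [show c ^ i * g * (g⁻¹ * f ^ (-i) * c ^ i) = c ^ i * (f ^ (-i) * c ^ i) by group, ← hfi,
      ← ((h.four_c hf).zpow_zpow i i).eq, mul_assoc]
  have hrr : M (r * r) := by
    rcases h.rr with k | ⟨-, g, hg, k⟩
    · exact ⟨0, r * r, k, by rw [zpow_zero, one_mul]⟩
    · exact ⟨q, g, hg, by rw [k, zpow_natCast]⟩
  have hform : ∀ v ∈ (P : Subgroup G), M v ∨ ∃ m, M m ∧ v = m * r := fun v hv => by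
    obtain ⟨i, g, hg, k | k⟩ := h.form v hv
    exacts [Or.inl ⟨i, g, hg, k⟩, Or.inr ⟨_, ⟨i, g, hg, rfl⟩, k⟩]
  intro v hv w hw
  rcases hform v hv with hm | ⟨m, hm, rfl⟩ <;> rcases hform w hw with hn | ⟨n, hn, rfl⟩
  · rw [commutatorElement_eq_one_iff_mul_comm.2 (hMc _ _ hm hn).eq]; exact one_mem _
  · obtain ⟨hmφ, hd⟩ := hMφ v hm
    have e1 : ⁅v, n * r⁆ = v * (r * v * r⁻¹)⁻¹ := by
      rw [commutatorElement_def, show v * (n * r) * v⁻¹ * (n * r)⁻¹ = v * (n * (r * v * r⁻¹)⁻¹ * n⁻¹) by group,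
        ((hMc n _ hn hmφ).inv_right).eq, mul_inv_cancel_right]
    rw [e1]; exact hd
  · obtain ⟨hnφ, hd⟩ := hMφ w hn
    have e1 : ⁅m * r, w⁆ = (r * w * r⁻¹) * w⁻¹ := by
      rw [commutatorElement_def, show m * r * w * (m * r)⁻¹ * w⁻¹ = m * (r * w * r⁻¹) * m⁻¹ * w⁻¹ by group,
        (hMc m _ hm hnφ).eq, mul_inv_cancel_right]
    rw [e1, show r * w * r⁻¹ * w⁻¹ = (w * (r * w * r⁻¹)⁻¹)⁻¹ by group]
    exact inv_mem hd
  · obtain ⟨hmφ, hdm⟩ := hMφ m hm
    obtain ⟨hnφ, hdn⟩ := hMφ n hn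
    have e1 : ⁅m * r, n * r⁆ = (m * (r * m * r⁻¹)⁻¹) * (n * (r * n * r⁻¹)⁻¹)⁻¹ := by
      have e2 : ⁅m * r, n * r⁆ = m * ((r * n * r⁻¹) * (r * m * r⁻¹)⁻¹) * n⁻¹ := by
        rw [commutatorElement_def]; group
      rw [e2, ((hMc _ _ hnφ hmφ).inv_right).eq, mul_inv_rev, inv_inv]
      group
    rw [e1]
    exact mul_mem hdm (inv_mem hdn)

/-- No two members of the central four-group are conjugate. -/
theorem four_rigid (hperf : commutator G = ⊤) (hre : r * e * r⁻¹ = e)
    (hab : ¬ ∀ v ∈ (P : Subgroup G), ∀ w ∈ (P : Subgroup G), v * w = w * v) {u v : G}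
    (hu : u ∈ four z e) (hv : v ∈ four z e) {g : G} (hg : g * u * g⁻¹ = v) : u = v := by
  haveI : Fact (Nat.Prime 2) := ⟨Nat.prime_two⟩
  by_cases hu1 : u = 1
  · rw [← hg, hu1]; group
  by_contra hne
  have hcu := h.four_central hre hu
  have hcv := h.four_central hre hv
  have himg : ∀ (a : G), (∀ w ∈ (P : Subgroup G), w * a = a * w) → ∀ x ∈ (P : Subgroup G),
      (fun y => x * y * x⁻¹) '' {a} = {a} := fun a ha x hx => by
    rw [Set.image_singleton, ha x hx, mul_inv_cancel_right]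
  obtain ⟨n, hn, hne'⟩ := Transfer.Fusion.burnside_fusion_set P (himg u hcu) (himg v hcv)
    (g := g) (by rw [Set.image_singleton, hg])
  rw [Set.image_singleton, Set.singleton_eq_singleton_iff] at hne'
  -- a nontrivial element of the four-group fixed by the normalizer
  obtain ⟨w, hw, hw1, hnw⟩ : ∃ w ∈ four z e, w ≠ 1 ∧ n * w * n⁻¹ = w := by
    rcases h.q_cases with hq | hq
    · obtain ⟨f, hf, hrc⟩ := h.rc
      refine ⟨c * c * f, h.four_mul (Or.inr (Or.inl (by
        rw [← h.top, hq, mul_one, pow_two]))) hf, fun hcf => hab fun a ha b hb => ?_, ?_⟩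
      · have := h.comm_mem hre hf hrc a ha b hb
        rw [hcf, zpowers_one_eq_bot, mem_bot] at this
        exact commutatorElement_eq_one_iff_mul_comm.1 this
      · set w := c * c * f with hw
        have hwf : w ∈ four z e := h.four_mul (Or.inr (Or.inl (by rw [← h.top, hq, mul_one, pow_two]))) hf
        have hwc : ⁅c, r⁆ = w := by
          rw [commutatorElement_def, show c * r * c⁻¹ * r⁻¹ = c * (r * c * r⁻¹)⁻¹ by group, hrc, mul_inv_rev,
            inv_inv, h.four_inv hf, ← (h.four_c hf).eq, hw, ← mul_assoc]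
        have h1 : n * w * n⁻¹ ∈ zpowers w := by
          rw [← hwc, commutatorElement_def, show n * (c * r * c⁻¹ * r⁻¹) * n⁻¹ =
            (n * c * n⁻¹) * (n * r * n⁻¹) * (n * c * n⁻¹)⁻¹ * (n * r * n⁻¹)⁻¹ by group,
            ← commutatorElement_def, ← commutatorElement_def, hwc]
          exact h.comm_mem hre hf hrc _ ((mem_normalizer_iff.1 hn c).1 h.cP) _ ((mem_normalizer_iff.1 hn r).1 h.rP)
        obtain ⟨i, hi⟩ := mem_zpowers_iff.1 h1
        rcases Int.even_or_odd i with k | k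
        · exfalso
          rw [(zpow_of_sq (h.four_sq hwf) i).1 k] at hi
          have hw0 := conj_eq_one_iff.1 hi.symm
          refine hab fun a ha b hb => ?_
          have := h.comm_mem hre hf hrc a ha b hb
          rw [← hw, hw0, zpowers_one_eq_bot, mem_bot] at this
          exact commutatorElement_eq_one_iff_mul_comm.1 this
        · rw [← hi, (zpow_of_sq (h.four_sq hwf) i).2 k]
    · exact ⟨z, Or.inr (Or.inl rfl), h.z1,
        h.exists_fix (Or.inl hq) ((mem_normalizer_iff.1 hn c).1 h.cP)⟩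
  have hv1 : v ≠ 1 := fun k => hu1 (conj_eq_one_iff.1 (hg.trans k))
  by_cases huw : u = w
  · exact hne (by rw [← hne', huw, hnw])
  by_cases hvw : v = w
  · exact hne ((MulAut.conj n).injective (show n * u * n⁻¹ = n * v * n⁻¹ by rw [hne', hvw, hnw]))
  have hvu : v = u * w := by
    have h2 : ∀ a ∈ four z e, ∀ b ∈ four z e, ∀ d ∈ four z e, a ≠ 1 → b ≠ 1 → d ≠ 1 → a ≠ b → a ≠ d →
        b ≠ d → d = a * b := by
      have e1 : z * e = e * z := h.ze.eq
      have e2 : e * z * z = e := by rw [mul_assoc, h.z2, mul_one]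
      have e3 : z * (e * z) = e := by rw [← mul_assoc, e1, e2]
      have e4 : e * (e * z) = z := by rw [← mul_assoc, h.e2, one_mul]
      have e5 : e * z * e = z := by rw [mul_assoc, e1, e4]
      rintro a (k | k | k | k) b (k' | k' | k' | k') d (k'' | k'' | k'' | k'') n1 n2 n3 n4 n5 n6 <;>
        rw [k] at * <;> rw [k'] at * <;> rw [k''] at * <;>
        simp only [ne_eq, not_true_eq_false, e1, e2, e3, e4, e5] at * 
    exact h2 u hu w hw v hv hu1 hw1 hv1 huw hne fun k => hvw k.symm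
  refine hne (swap_eq P hn hcu hne' ?_)
  rw [hvu, show n * (u * w) * n⁻¹ = n * u * n⁻¹ * (n * w * n⁻¹) by group, hne', hnw, hvu, mul_assoc,
    h.four_sq hw, mul_one]

/-- The twin forces `f = r² = 1` when the squares outside are `1` somewhere. -/
theorem twin_trivial (hre : r * e * r⁻¹ = e) {f : G} (hf : f ∈ four z e) (hrc : r * c * r⁻¹ = c⁻¹ * f)
    {g : G} (hg : g ∈ four z e) (i : ℤ) (h2 : c ^ i * g * r * (c ^ i * g * r) = 1) :
    f = 1 ∧ r * r = 1 := by
  have hsq : ∀ (i : ℤ) (g : G), g ∈ four z e → c ^ i * g * r * (c ^ i * g * r) = f ^ i * (r * r) :=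
    fun i g hg => by rw [h.sq_out hf hrc hg, h.conj_four_of_central hre hg, h.four_sq hg, one_mul]
  obtain ⟨j, k, hk, hj, htw⟩ := h.twin
  rw [hsq j k hk, (zpow_of_sq (h.four_sq hf) j).2 hj] at htw
  rw [hsq i g hg] at h2
  by_cases hr : r * r = 1
  · refine ⟨?_, hr⟩
    have := htw.2 hr
    rwa [hr, mul_one] at this
  · exfalso
    rcases Int.even_or_odd i with hi | hi
    · rw [(zpow_of_sq (h.four_sq hf) i).1 hi, one_mul] at h2; exact hr h2
    · rw [(zpow_of_sq (h.four_sq hf) i).2 hi] at h2; exact hr (htw.1 h2)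

/-- No involution outside the abelian subgroup: the four-group would be central. -/
theorem central_no_invol (hperf : commutator G = ⊤) (hO : Cfsg.oddCore G ≤ center G)
    (hre : r * e * r⁻¹ = e) (hno : ∀ v ∈ (P : Subgroup G), v * v = 1 → v ∈ four z e) : False := by
  by_cases hab : ∀ v ∈ (P : Subgroup G), ∀ w ∈ (P : Subgroup G), v * w = w * v
  · have hx : c ^ q * c ^ q = z := by rw [← pow_add, ← two_mul, h.top]
    refine no_abelian P hperf hab (x := c ^ q) (e := e) (pow_mem h.cP q) ?_ h.eP h.e2 h.e1 (hx.symm ▸ h.ez)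
      (fun v hv h2 => hx.symm ▸ hno v hv h2)
    rw [show (4 : ℕ) = 4 * 1 from rfl]
    have := orderOf_of_top (u := c ^ q) (q := 1) ⟨0, rfl⟩ h.z2 h.z1 (by rw [mul_one, pow_two, hx])
    exact this
  obtain ⟨f, hf, hrc⟩ := h.rc
  have hiso : ∀ u ∈ four z e, u ≠ 1 → u ∈ zpowers (c * c * f) := by
    intro u hu hu1
    have huc : u ∈ center G := by
      refine central_of_isolated hperf hO (orderOf_eq_prime (by rw [pow_two, h.four_sq hu]) hu1)
        (h.isolated_of_class (h.four_mem hu) (h.four_sq hu) fun g hg => ?_)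
      exact (h.four_rigid hperf hre hab hu (hno _ hg (by
        rw [show g * u * g⁻¹ * (g * u * g⁻¹) = g * (u * u) * g⁻¹ by group, h.four_sq hu]; group)) rfl).symm
    exact central_mem P hperf (h.four_mem hu) huc _ (h.comm_mem hre hf hrc)
  exact h.ez (invol_unique (hiso e (Or.inr (Or.inr (Or.inl rfl))) h.e1) (hiso z (Or.inr (Or.inl rfl)) h.z1)
    h.e2 h.z2 h.e1 h.z1)

/-- The split case. -/
theorem central_split (hperf : commutator G = ⊤) (hre : r * e * r⁻¹ = e) (hrc : r * c * r⁻¹ = c⁻¹)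
    (hrr : r * r = 1) : False := by
  have hrc0 : r * c * r⁻¹ = c⁻¹ * 1 := by rw [mul_one, hrc]
  have h1f : (1 : G) ∈ four z e := Or.inl rfl
  have hab : ¬ ∀ v ∈ (P : Subgroup G), ∀ w ∈ (P : Subgroup G), v * w = w * v := fun hab => by
    rw [hab r h.rP c h.cP, mul_inv_cancel_right] at hrc
    have h4 : c ^ 2 = 1 := by rw [pow_two]; nth_rw 1 [hrc]; exact inv_mul_cancel c
    have := h.top
    rw [pow_mul, h4, one_pow] at this
    exact h.z1 this.symm
  have hfr : ∀ {u v : G}, u ∈ four z e → v ∈ four z e → IsConj u v → u = v := fun hu hv huv => by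
    obtain ⟨g, hg⟩ := isConj_iff.1 huv
    exact h.four_rigid hperf hre hab hu hv hg
  have hconjc : ∀ j : ℤ, ∀ a ∈ four z e, ∀ i : ℤ, c ^ j * (c ^ i * a * r) * (c ^ j)⁻¹ = c ^ (i + 2 * j) * a * r := by
    intro j a ha i
    have h5 : r * (c ^ j)⁻¹ = c ^ j * r := by
      rw [← zpow_neg, ← mul_inv_eq_iff_eq_mul, h.conj_pow h1f hrc0, one_zpow, mul_one, neg_neg]
    rw [show c ^ j * (c ^ i * a * r) * (c ^ j)⁻¹ = c ^ j * c ^ i * a * (r * (c ^ j)⁻¹) by group, h5,
      show c ^ j * c ^ i * a * (c ^ j * r) = c ^ j * c ^ i * (a * c ^ j) * r by group,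
      ← ((h.four_c ha).zpow_left j).eq, show i + 2 * j = j + i + j by ring, zpow_add, zpow_add]
    group
  -- the class of every involution outside is one of four
  have hrep : ∀ s ∈ (P : Subgroup G), s * s = 1 → s ∈ four z e ∨
      IsConj s r ∨ IsConj s (c * r) ∨ IsConj s (e * r) ∨ IsConj s (c * e * r) := by
    intro s hs h2
    obtain ⟨i, g, hg, k | k⟩ := h.form s hs
    · rw [k] at h2 ⊢; exact Or.inl (h.inv_in hg i h2)
    · right
      obtain ⟨i', g', hg', rfl⟩ : ∃ (i' : ℤ) (g' : G), (g' = 1 ∨ g' = e) ∧ s = c ^ i' * g' * r := by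
        have hzc : ∀ j : ℤ, c ^ j * z = c ^ (j + (2 * q : ℕ)) := fun j => by rw [zpow_add, zpow_natCast, h.top]
        rcases hg with rfl | rfl | rfl | rfl
        · exact ⟨i, 1, Or.inl rfl, k⟩
        · exact ⟨i + (2 * q : ℕ), 1, Or.inl rfl, by rw [k, hzc, mul_one]⟩
        · exact ⟨i, g, Or.inr rfl, k⟩
        · exact ⟨i + (2 * q : ℕ), e, Or.inr rfl, by
            rw [k, ← hzc, mul_assoc (c ^ i) z e, h.ze.eq]⟩
      have hg4 : g' ∈ four z e := by
        rcases hg' with rfl | rfl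
        exacts [Or.inl rfl, Or.inr (Or.inr (Or.inl rfl))]
      rcases Int.even_or_odd i' with ⟨j, rfl⟩ | ⟨j, rfl⟩
      · have hc : IsConj (c ^ (j + j) * g' * r) (c ^ (0 : ℤ) * g' * r) :=
          isConj_iff.2 ⟨c ^ (-j), by rw [hconjc _ _ hg4]; congr 3; ring⟩
        rw [zpow_zero, one_mul] at hc
        rcases hg' with rfl | rfl
        · rw [one_mul] at hc; exact Or.inl hc
        · exact Or.inr (Or.inr (Or.inl hc))
      · have hc : IsConj (c ^ (2 * j + 1) * g' * r) (c ^ (1 : ℤ) * g' * r) :=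
          isConj_iff.2 ⟨c ^ (-j), by rw [hconjc _ _ hg4]; congr 3; ring⟩
        rw [zpow_one] at hc
        rcases hg' with rfl | rfl
        · simp only [mul_one] at hc ⊢; exact Or.inr (Or.inl hc)
        · exact Or.inr (Or.inr (Or.inr hc))
  -- transfer along the four dihedral subgroups
  have htr : ∀ (c' r' : G), c' ∈ (P : Subgroup G) → r' ∈ (P : Subgroup G) → c' ^ (2 * q) = z →
      r' * c' * r'⁻¹ = c'⁻¹ → r' * r' = 1 → (c = c' ∨ c = c' * e) → (r = r' ∨ r = r' * e) →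
      Commute c' e → Commute r' e →
      ∀ u ∈ four z e, u ≠ 1 → u ≠ z → IsConj u r' ∨ IsConj u (c' * r') := by
    intro c' r' hc'P hr'P hc'top hc'rc hr'2 hc'c hr'r hc'e hr'e u hu hu1 huz
    obtain ⟨N, hN⟩ := exists_dihedral hc'rc (hr'2 ▸ one_mem _)
    have hNP : N ≤ (P : Subgroup G) := fun g hg => by
      rcases (hN g).1 hg with ⟨i, rfl | rfl⟩
      exacts [zpow_mem hc'P i, mul_mem (zpow_mem hc'P i) hr'P]
    have hcN : ∀ i : ℤ, c' ^ i ∈ N := fun i => (hN _).2 ⟨i, Or.inl rfl⟩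
    have hrN : r' ∈ N := (hN _).2 ⟨0, Or.inr (by simp)⟩
    have hzN : z ∈ N := hc'top ▸ zpow_natCast c' (2 * q) ▸ hcN _
    have hcpow : ∀ i : ℤ, ∃ g ∈ four z e, c' ^ i = c ^ i * g := fun i => by
      rcases hc'c with k | k
      · exact ⟨1, Or.inl rfl, by rw [k, mul_one]⟩
      · refine ⟨e ^ i, h.four_zpow (Or.inr (Or.inr (Or.inl rfl))) i, ?_⟩
        rw [k, hc'e.mul_zpow, mul_assoc, h.four_sq (h.four_zpow (Or.inr (Or.inr (Or.inl rfl))) i), mul_one]
    have heN : e ∉ N := by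
      intro hin
      rcases (hN e).1 hin with ⟨i, k | k⟩
      · rcases eq_top_of_sq h.q_two h.z2 h.z1 hc'top i (k ▸ h.e2) with k' | k'
        exacts [h.e1 (k.trans k'), h.ez (k.trans k')]
      · obtain ⟨g, hg, hci⟩ := hcpow (-i)
        have hr' : r' = c ^ (-i) * (g * e) := by
          rw [← mul_assoc, ← hci, k, ← mul_assoc, ← zpow_add, neg_add_cancel, zpow_zero, one_mul]
        rcases hr'r with k' | k'
        · exact h.out (-i) (g * e) (h.four_mul hg (Or.inr (Or.inr (Or.inl rfl)))) (k'.trans hr')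
        · refine h.out (-i) g hg ?_
          rw [k', hr', mul_assoc (c ^ (-i)), mul_assoc g e e, h.e2, mul_one]
    let U : Set G := {g | g ∈ N ∨ g * e ∈ N}
    have hUe : ∀ g ∈ U, g * e ∈ U := fun g hg => by
      rcases hg with k | k
      · exact Or.inr (by rw [mul_assoc, h.e2, mul_one]; exact k)
      · exact Or.inl k
    have hUz : ∀ g ∈ U, g * z ∈ U := fun g hg => by
      rcases hg with k | k
      · exact Or.inl (mul_mem k hzN)
      · refine Or.inr ?_
        rw [mul_assoc, h.ze.eq, ← mul_assoc]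
        exact mul_mem k hzN
    have hUr : ∀ g ∈ U, g * r ∈ U := fun g hg => by
      have h1 : ∀ g ∈ U, g * r' ∈ U := fun g hg => by
        rcases hg with k | k
        · exact Or.inl (mul_mem k hrN)
        · exact Or.inr (by rw [mul_assoc, hr'e.eq, ← mul_assoc]; exact mul_mem k hrN)
      rcases hr'r with k | k <;> rw [k]
      · exact h1 g hg
      · rw [← mul_assoc]; exact hUe _ (h1 g hg)
    have hUg : ∀ g ∈ four z e, ∀ a ∈ U, a * g ∈ U := by
      rintro g (rfl | rfl | rfl | rfl) a ha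
      · rwa [mul_one]
      · exact hUz a ha
      · exact hUe a ha
      · rw [← mul_assoc]; exact hUz _ (hUe a ha)
    have hUc : ∀ i : ℤ, c ^ i ∈ U := fun i => by
      obtain ⟨g, hg, hci⟩ := hcpow i
      have : c ^ i = c' ^ i * g := by rw [hci, mul_assoc, h.four_sq hg, mul_one]
      rw [this]
      exact hUg g hg _ (Or.inl (hcN i))
    obtain ⟨g, hg⟩ := transfer P hperf N hNP h.eP heN (fun s hs => by
      obtain ⟨i, g, hg, k | k⟩ := h.form s hs <;> rw [k]
      exacts [hUg g hg _ (hUc i), hUr _ (hUg g hg _ (hUc i))])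
      (orderOf_eq_prime (by rw [pow_two, h.four_sq hu]) hu1)
    set y := g * u * g⁻¹ with hy
    have hyc : IsConj u y := isConj_iff.2 ⟨g, rfl⟩
    have hy2 : y * y = 1 := by
      rw [hy, show g * u * g⁻¹ * (g * u * g⁻¹) = g * (u * u) * g⁻¹ by group, h.four_sq hu]; group
    rcases (hN y).1 hg with ⟨i, k | k⟩
    · rcases eq_top_of_sq h.q_two h.z2 h.z1 hc'top i (k ▸ hy2) with k' | k'
      · exact absurd (conj_eq_one_iff.1 (k.trans k')) hu1
      · exact absurd (hfr hu (Or.inr (Or.inl rfl)) (k' ▸ k ▸ hyc)) huz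
    · have h5 : ∀ j : ℤ, r' * (c' ^ j)⁻¹ = c' ^ j * r' := fun j => by
        rw [← zpow_neg, ← mul_inv_eq_iff_eq_mul, ← conj_zpow, hc'rc, inv_zpow', neg_neg]
      rw [k] at hyc
      rcases Int.even_or_odd i with ⟨j, rfl⟩ | ⟨j, rfl⟩
      · refine Or.inl (hyc.trans (isConj_iff.2 ⟨c' ^ (-j), ?_⟩))
        rw [show c' ^ (-j) * (c' ^ (j + j) * r') * (c' ^ (-j))⁻¹ = c' ^ j * (r' * (c' ^ (-j))⁻¹) by group, h5,
          ← mul_assoc, ← zpow_add, add_neg_cancel, zpow_zero, one_mul]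
      · refine Or.inr (hyc.trans (isConj_iff.2 ⟨c' ^ (-j), ?_⟩))
        rw [show c' ^ (-j) * (c' ^ (2 * j + 1) * r') * (c' ^ (-j))⁻¹ = c' ^ (j + 1) * (r' * (c' ^ (-j))⁻¹) by group,
          h5, ← mul_assoc, ← zpow_add, show j + 1 + -j = 1 by ring, zpow_one]
  have her : Commute r e := mul_inv_eq_iff_eq_mul.1 hre
  have hree : r = e * r * e := by rw [mul_assoc, her.eq, ← mul_assoc, h.e2, one_mul]
  have hre' : r = r * e * e := by rw [mul_assoc, h.e2, mul_one]
  have hN1 := htr c r h.cP h.rP h.top hrc hrr (Or.inl rfl) (Or.inl rfl) h.ce her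
  have herc : e * r * c * (e * r)⁻¹ = c⁻¹ := by
    rw [show e * r * c * (e * r)⁻¹ = e * (r * c * r⁻¹) * e⁻¹ by group, hrc, (h.ce.symm.inv_right).eq,
      mul_inv_cancel_right]
  have her2 : e * r * (e * r) = 1 := by rw [her.mul_mul_mul_comm, h.e2, hrr, one_mul]
  have hN2 := htr c (e * r) h.cP (mul_mem h.eP h.rP) h.top herc her2 (Or.inl rfl) (Or.inr hree) h.ce
    ((Commute.refl e).mul_left her)
  rw [show c * (e * r) = c * e * r by rw [mul_assoc]] at hN2
  have he4 : e ∈ four z e := Or.inr (Or.inr (Or.inl rfl))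
  have hez4 : e * z ∈ four z e := Or.inr (Or.inr (Or.inr rfl))
  have hez1 : e * z ≠ 1 := fun k => h.ez (by
    rw [eq_inv_of_mul_eq_one_left k, inv_eq_of_mul_eq_one_right h.z2])
  have hezz : e * z ≠ z := fun k => h.e1 (mul_eq_right.1 k)
  have hne : ∀ s, IsConj e s → IsConj (e * z) s → False := fun s k k' =>
    h.z1 (left_eq_mul.1 (hfr he4 hez4 (k.trans k'.symm)))
  have a1 := hN1 e he4 h.e1 h.ez
  have a2 := hN2 e he4 h.e1 h.ez
  have b1 := hN1 _ hez4 hez1 hezz
  have b2 := hN2 _ hez4 hez1 hezz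
  have n1 := hne r
  have n2 := hne (c * r)
  have n3 := hne (e * r)
  have n4 := hne (c * e * r)
  have hcov : ∀ s, (s = r ∨ s = c * r ∨ s = e * r ∨ s = c * e * r) → IsConj e s ∨ IsConj (e * z) s := by
    rintro s (rfl | rfl | rfl | rfl)
    · exact a1.elim Or.inl fun k => b1.elim Or.inr fun k' => (n2 k k').elim
    · exact a1.elim (fun k => b1.elim (fun k' => (n1 k k').elim) Or.inr) Or.inl
    · exact a2.elim Or.inl fun k => b2.elim Or.inr fun k' => (n4 k k').elim
    · exact a2.elim (fun k => b2.elim (fun k' => (n3 k k').elim) Or.inr) Or.inl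
  have hzcl : ∀ g : G, g * z * g⁻¹ ∈ (P : Subgroup G) → g * z * g⁻¹ = z := by
    intro g hg
    have hc : IsConj z (g * z * g⁻¹) := isConj_iff.2 ⟨g, rfl⟩
    have key : ∀ s, (s = r ∨ s = c * r ∨ s = e * r ∨ s = c * e * r) → ¬ IsConj (g * z * g⁻¹) s := by
      intro s hs hs'
      rcases hcov s hs with k | k
      · exact h.ez (hfr he4 (Or.inr (Or.inl rfl)) (k.trans (hs'.symm.trans hc.symm)))
      · exact hezz (hfr hez4 (Or.inr (Or.inl rfl)) (k.trans (hs'.symm.trans hc.symm)))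
    rcases hrep _ hg (by rw [show g * z * g⁻¹ * (g * z * g⁻¹) = g * (z * z) * g⁻¹ by group, h.z2]; group)
      with k | k | k | k | k
    · exact (hfr (Or.inr (Or.inl rfl)) k hc).symm
    · exact absurd k (key _ (Or.inl rfl))
    · exact absurd k (key _ (Or.inr (Or.inl rfl)))
    · exact absurd k (key _ (Or.inr (Or.inr (Or.inl rfl))))
    · exact absurd k (key _ (Or.inr (Or.inr (Or.inr rfl))))
  obtain ⟨u, hu, huP, huz, hconj⟩ : ∃ u, IsConj u e ∧ u ∈ (P : Subgroup G) ∧ Commute u z ∧ IsConj u (z * u) := by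
    have hq : (q : ℤ) + (q : ℤ) = ((2 * q : ℕ) : ℤ) := by push_cast; ring
    have hz : c ^ (2 * (q : ℤ)) = z := by rw [show 2 * (q : ℤ) = ((2 * q : ℕ) : ℤ) by push_cast; ring, zpow_natCast, h.top]
    rcases a1 with k | k
    · refine ⟨r, k.symm, h.rP, h.zc r h.rP, isConj_iff.2 ⟨c ^ (q : ℤ), ?_⟩⟩
      have := hconjc q 1 h1f 0
      rw [zpow_zero, one_mul, one_mul, zero_add, mul_one, hz] at this
      exact this
    · refine ⟨c * r, k.symm, mul_mem h.cP h.rP, h.zc _ (mul_mem h.cP h.rP), isConj_iff.2 ⟨c ^ (q : ℤ), ?_⟩⟩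
      have := hconjc q 1 h1f 1
      rw [zpow_one, mul_one, mul_one, add_comm, zpow_add, hz, zpow_one] at this
      rw [← mul_assoc z]; exact this
  obtain ⟨g, hg⟩ := isConj_iff.1 hu
  obtain ⟨k, hk, hkP⟩ := move P h.eP (h.four_central hre he4) hg
  have hkz := hzcl k (hkP z h.zP huz.symm)
  refine hne (z * u) (hu.symm.trans hconj) (isConj_iff.2 ⟨k⁻¹, ?_⟩)
  rw [← h.ze.eq]
  nth_rw 1 [← hkz, ← hk]
  group

/-- `e` central in the Sylow subgroup is impossible. -/
theorem no_central (hperf : commutator G = ⊤) (hO : Cfsg.oddCore G ≤ center G)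
    (hre : r * e * r⁻¹ = e) : False := by
  obtain ⟨f, hf, hrc⟩ := h.rc
  by_cases hno : ∀ v ∈ (P : Subgroup G), v * v = 1 → v ∈ four z e
  · exact h.central_no_invol hperf hO hre hno
  push Not at hno
  obtain ⟨v, hv, hv2, hvf⟩ := hno
  obtain ⟨i, g, hg, k | k⟩ := h.form v hv <;> rw [k] at hv2 hvf
  · exact hvf (h.inv_in hg i hv2)
  · obtain ⟨hf1, hr2⟩ := h.twin_trivial hre hf hrc hg i hv2
    rw [hf1, mul_one] at hrc
    exact h.central_split hperf hre hrc hr2

/-- No perfect group has such a Sylow subgroup. -/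
theorem elim (hperf : commutator G = ⊤) (hsol : SolvCentral G)
    (hFT : ∀ N : Subgroup G, Odd (Nat.card N) → Group.IsSolvable N)
    (hFT' : ∀ {Q : Type u} [Group Q] [Finite Q], Odd (Nat.card Q) → Group.IsSolvable Q) : False := by
  rcases h.re with hre | hre
  · exact h.no_central hperf (oddCore_le_center hFT hsol) hre
  · by_cases hrr : r * r ∈ four z e
    · exact h.no_moving_dihedral hperf hre hrr
    · exact h.no_moving_quaternion hperf hsol hFT hFT' hre hrr

end Shape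

end Cfsg.Agent.SemiRankOne
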