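import Mathlib
import Cfsg.Agent.Lib.SemiRankOne.Central
import Cfsg.Agent.Lib.Components.FourActionRankOne

/-!
The setting: an involution `t` outside a perfect normal subgroup `A` of index two whose centralizer in
`A` has a cyclic Sylow 2-subgroup `⟨x⟩` of order four.
-/

set_option autoImplicit false
set_option linter.all false

namespace Cfsg.Agent.SemiRankOne

open Subgroup
open scoped commutatorElement

universe u

variable {H : Type u} [Group H]

/-- An element normalising a cyclic group and squaring into it generates an extension with this form. -/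
theorem exists_ext {c v : H} {κ : ℤ} (hvc : v * c * v⁻¹ = c ^ κ) (hvv : v * v ∈ zpowers c) :
    ∃ N : Subgroup H, ∀ g, g ∈ N ↔ ∃ i : ℤ, g = c ^ i ∨ g = c ^ i * v := by
  have hconj : ∀ i : ℤ, v * c ^ i = c ^ (κ * i) * v := fun i => by
    rw [← mul_inv_eq_iff_eq_mul, ← conj_zpow, hvc, zpow_mul]
  obtain ⟨m, hm⟩ := mem_zpowers_iff.1 hvv
  have hmul : ∀ g g' : H, (∃ i : ℤ, g = c ^ i ∨ g = c ^ i * v) → (∃ i : ℤ, g' = c ^ i ∨ g' = c ^ i * v) →
      ∃ i : ℤ, g * g' = c ^ i ∨ g * g' = c ^ i * v := by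
    rintro _ _ ⟨i, rfl | rfl⟩ ⟨j, rfl | rfl⟩
    · exact ⟨i + j, Or.inl (zpow_add c i j).symm⟩
    · exact ⟨i + j, Or.inr (by rw [zpow_add, mul_assoc])⟩
    · exact ⟨i + κ * j, Or.inr (by rw [mul_assoc, hconj, zpow_add, mul_assoc])⟩
    · exact ⟨i + κ * j + m, Or.inl (by
        rw [zpow_add, zpow_add, hm, mul_assoc (c ^ i) v, ← mul_assoc v, hconj]
        simp only [mul_assoc])⟩
  refine ⟨{ carrier := {g | ∃ i : ℤ, g = c ^ i ∨ g = c ^ i * v}
            one_mem' := ⟨0, Or.inl (zpow_zero c).symm⟩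
            mul_mem' := fun {a b} ha hb => hmul a b ha hb
            inv_mem' := ?_ }, fun g => Iff.rfl⟩
  have hvi : ∃ i : ℤ, v⁻¹ = c ^ i ∨ v⁻¹ = c ^ i * v :=
    ⟨-m, Or.inr (by rw [zpow_neg, hm]; group)⟩
  rintro _ ⟨i, rfl | rfl⟩
  · exact ⟨-i, Or.inl (zpow_neg c i).symm⟩
  · rw [mul_inv_rev]
    exact hmul _ _ hvi ⟨-i, Or.inl (zpow_neg c i).symm⟩

/-- The standing hypotheses. -/
structure Ctx (A : Subgroup H) (T : Sylow 2 H) (t x : H) : Prop where
  normal : A.Normal
  perf : commutator ↥A = ⊤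
  solv : SolvCentral ↥A
  odd : ∀ {Q : Type u} [Group Q] [Finite Q], Odd (Nat.card Q) → Group.IsSolvable Q
  idx : ∀ g : H, g ∈ A ∨ g * t ∈ A
  tA : t ∉ A
  tT : t ∈ (T : Subgroup H)
  t2 : t * t = 1
  xA : x ∈ A
  xT : x ∈ (T : Subgroup H)
  x4 : orderOf x = 4
  xt : Commute x t
  cent : ∀ s ∈ (T : Subgroup H), s ∈ A → Commute s t → s ∈ zpowers x
  small : ∀ R : Subgroup H, IsPGroup 2 R → R ≤ A → (∀ g ∈ R, Commute g t) → Nat.card R ≤ 4

namespace Ctx

variable [Finite H] {A : Subgroup H} {T : Sylow 2 H} {t x : H} (h : Ctx A T t x)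
include h

theorem x2_ne : x * x ≠ 1 := fun k => by
  have : orderOf x ∣ 2 := orderOf_dvd_of_pow_eq_one (by rw [pow_two, k])
  rw [h.x4] at this
  omega

theorem x2_sq : x * x * (x * x) = 1 := by
  rw [show x * x * (x * x) = x ^ 4 by simp [pow_succ, mul_assoc], ← h.x4, pow_orderOf_eq_one]

theorem x2_t : Commute (x * x) t := h.xt.mul_left h.xt

theorem conjA {g a : H} (ha : a ∈ A) : g * a * g⁻¹ ∈ A := h.normal.conj_mem a ha g

/-- The only fixed involution. -/
theorem fixed_invol {v : H} (hvT : v ∈ (T : Subgroup H)) (hvA : v ∈ A) (hvt : Commute v t) (hv2 : v * v = 1)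
    (hv1 : v ≠ 1) : v = x * x :=
  invol_unique (h.cent v hvT hvA hvt) (mul_mem (mem_zpowers x) (mem_zpowers x)) hv2 h.x2_sq hv1 h.x2_ne

/-- The Sylow subgroup of `A` cut out by `T`. -/
theorem exists_P : ∃ P : Sylow 2 ↥A, ∀ a : ↥A, a ∈ (P : Subgroup ↥A) ↔ (a : H) ∈ (T : Subgroup H) := by
  haveI := h.normal
  haveI : Fact (Nat.Prime 2) := ⟨Nat.prime_two⟩
  have hodd : ¬ 2 ∣ (T : Subgroup H).relIndex A := fun k =>
    T.not_dvd_index' Nat.card_pos.ne' (k.trans (Components.FourAction.relIndex_dvd_index' _ _))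
  obtain ⟨P, hP⟩ := Components.FourAction.exists_sylow_eq (A := A) (S := (T : Subgroup H) ⊓ A) inf_le_right
    (T.2.to_le inf_le_left) (by rwa [inf_relIndex_right])
  refine ⟨P, fun a => ?_⟩
  constructor
  · intro ha
    exact (mem_inf.1 (hP ▸ mem_map_of_mem A.subtype ha)).1
  · intro ha
    have : (a : H) ∈ (P : Subgroup ↥A).map A.subtype := hP ▸ mem_inf.2 ⟨ha, a.2⟩
    obtain ⟨b, hb, hba⟩ := this
    exact (Subtype.ext hba : b = a) ▸ hb

/-- A subgroup of index two is `A`. -/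
theorem index_two {K : Subgroup H} (hK : K.index = 2) : K = A := by
  haveI := h.normal
  haveI := Subgroup.normal_of_index_eq_two hK
  haveI : IsCyclic (H ⧸ K) := isCyclic_of_prime_card (p := 2) (hp := ⟨Nat.prime_two⟩)
    (by rw [← Subgroup.index, hK])
  letI := IsCyclic.commGroup (α := H ⧸ K)
  have hle : A ≤ K := by
    have h1 := Abelianization.commutator_subset_ker ((QuotientGroup.mk' K).comp A.subtype)
    rw [h.perf] at h1
    intro a ha
    exact (QuotientGroup.eq_one_iff a).1 (h1 (mem_top (⟨a, ha⟩ : ↥A)))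
  refine le_antisymm (fun g hg => ?_) hle
  refine (h.idx g).resolve_right fun k => ?_
  have htK : t ∈ K := (K.mul_mem_cancel_left hg).1 (hle k)
  have : K = ⊤ := (eq_top_iff' K).2 fun a => (h.idx a).elim (fun j => hle j) fun j =>
    (K.mul_mem_cancel_right htK).1 (hle j)
  rw [this, index_top] at hK
  omega

/-- Parity: for an involution outside `A`, the fixed points on cosets of `M` number a multiple of four. -/
theorem parity {M : Subgroup H} (hM : M ≤ (T : Subgroup H)) {v : H} (hv : v ∈ (T : Subgroup H)) (hvM : v ∉ M)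
    (hidx : ∀ g ∈ (T : Subgroup H), g ∈ M ∨ g * v ∈ M) (hno : ∀ g : H, g * t * g⁻¹ ∉ M) {u : H}
    (hu : u * u = 1) (huA : u ∉ A) :
    4 * Nat.card M ∣ Nat.card {g : H // g⁻¹ * u * g ∈ M} := by
  classical
  haveI : Fact (Nat.Prime 2) := ⟨Nat.prime_two⟩
  haveI : Fintype (H ⧸ M) := Fintype.ofFinite _
  have hrel : M.relIndex (T : Subgroup H) = 2 := by
    refine index_eq_two_iff.2 ⟨⟨v, hv⟩, fun b => ?_⟩
    simp only [mem_subgroupOf, Subgroup.coe_mul]
    rcases hidx b b.2 with k | k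
    · exact Or.inr ⟨k, fun k' => hvM ((M.mul_mem_cancel_left k).1 k')⟩
    · exact Or.inl ⟨k, fun k' => hvM ((M.mul_mem_cancel_left k').1 k)⟩
  have hM4 : M.index % 4 = 2 := Involutions.ThompsonTransfer.index_mod_four hM hrel
    (Nat.odd_iff.mpr (Nat.two_dvd_ne_zero.mp T.not_dvd_index))
  let φ : H →* ℤˣ := Equiv.Perm.sign.comp (MulAction.toPermHom H (H ⧸ M))
  have hsgn : ∀ g : H, g * g = 1 → φ g = (-1) ^ ((MulAction.toPermHom H (H ⧸ M) g).support.card / 2) ∧
      2 ∣ (MulAction.toPermHom H (H ⧸ M) g).support.card := by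
    intro g hg
    set σ := MulAction.toPermHom H (H ⧸ M) g with hσ
    have hσ2 : σ ^ 2 = 1 := by rw [hσ, ← map_pow, pow_two, hg, map_one]
    have hct : σ.cycleType = Multiset.replicate σ.cycleType.card 2 := by
      refine Multiset.eq_replicate_card.mpr fun n hn => ?_
      have h1 := Equiv.Perm.dvd_of_mem_cycleType hn
      have h2 := Equiv.Perm.two_le_of_mem_cycleType hn
      have h3 : orderOf σ ∣ 2 := orderOf_dvd_of_pow_eq_one hσ2
      have := Nat.le_of_dvd two_pos (h1.trans h3)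
      omega
    have hsum := Equiv.Perm.sum_cycleType σ
    rw [hct, Multiset.sum_replicate, smul_eq_mul] at hsum
    refine ⟨?_, ⟨σ.cycleType.card, by omega⟩⟩
    show Equiv.Perm.sign σ = _
    rw [Equiv.Perm.sign_of_cycleType, hct, Multiset.sum_replicate, Multiset.card_replicate, smul_eq_mul,
      ← hsum, Nat.mul_div_cancel _ two_pos, show σ.cycleType.card * 2 + σ.cycleType.card = 2 * σ.cycleType.card + σ.cycleType.card by ring,
      pow_add, pow_mul]
    simp
  have hidxc : Fintype.card (H ⧸ M) = M.index := (Nat.card_eq_fintype_card (α := H ⧸ M)).symm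
  -- `t` is an odd permutation
  have ht : φ t = -1 := by
    rw [(hsgn t h.t2).1]
    have hall : (MulAction.toPermHom H (H ⧸ M) t).support = Finset.univ := by
      rw [Finset.eq_univ_iff_forall]
      intro c
      rw [Equiv.Perm.mem_support]
      obtain ⟨g, rfl⟩ := QuotientGroup.mk_surjective c
      intro e
      have e' : ((t * g : H) : H ⧸ M) = (g : H ⧸ M) := e
      rw [QuotientGroup.eq] at e'
      apply hno g⁻¹
      have := inv_mem e'
      rwa [show ((t * g)⁻¹ * g)⁻¹ = g⁻¹ * t * g⁻¹⁻¹ by group] at this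
    rw [hall, Finset.card_univ, hidxc]
    exact Odd.neg_one_pow (Nat.odd_iff.2 (by omega))
  have hker : φ.ker = A := h.index_two (by
    rw [Subgroup.index_ker]
    have : φ.range = ⊤ := by
      rw [eq_top_iff]
      intro w _
      rcases Int.units_eq_one_or w with rfl | rfl
      · exact one_mem _
      · exact ⟨t, ht⟩
    rw [this, Nat.card_congr Subgroup.topEquiv.toEquiv, Nat.card_eq_fintype_card]
    rfl)
  have hφu : φ u = -1 := (Int.units_eq_one_or (φ u)).resolve_left fun k => huA (hker ▸ k)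
  set σ := MulAction.toPermHom H (H ⧸ M) u with hσ
  obtain ⟨hsu, ⟨k, hk⟩⟩ := hsgn u hu
  rw [hφu, hk, Nat.mul_div_cancel_left _ two_pos] at hsu
  have hkodd : Odd k := by
    by_contra hke
    rw [Even.neg_one_pow (Nat.not_odd_iff_even.1 hke)] at hsu
    exact absurd hsu (by decide)
  set X : Set (H ⧸ M) := {c | σ c = c} with hX
  have hfix : Nat.card X % 4 = 0 := by
    have h1 : Nat.card X + σ.support.card = M.index := by
      rw [← hidxc, Nat.card_eq_fintype_card, ← Set.toFinset_card]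
      have : X.toFinset = σ.supportᶜ := by
        ext c; simp [hX, Equiv.Perm.mem_support]
      rw [this, Finset.card_compl_add_card]
    obtain ⟨l, rfl⟩ := hkodd
    have hk' : σ.support.card = 2 * (2 * l + 1) := hk
    omega
  have hpre : {g : H | g⁻¹ * u * g ∈ M} = (QuotientGroup.mk : H → H ⧸ M) ⁻¹' X := by
    ext g
    show g⁻¹ * u * g ∈ M ↔ ((u * g : H) : H ⧸ M) = (g : H ⧸ M)
    rw [QuotientGroup.eq]
    constructor
    · intro k'
      rw [show (u * g)⁻¹ * g = (g⁻¹ * u * g)⁻¹ by group]; exact inv_mem k'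
    · intro k'
      rw [show g⁻¹ * u * g = ((u * g)⁻¹ * g)⁻¹ by group]; exact inv_mem k'
  show 4 * Nat.card M ∣ Nat.card ↥{g : H | g⁻¹ * u * g ∈ M}
  rw [hpre, Nat.card_congr (QuotientGroup.preimageMkEquivSubgroupProdSet M X), Nat.card_prod, mul_comm 4]
  exact Nat.mul_dvd_mul_left _ (Nat.dvd_of_mod_eq_zero hfix)

/-- An element of the centralizer of a fused involution squaring to the central one. -/
theorem twist {r s z y : H} (hzT : z ∈ (T : Subgroup H)) (hzc : ∀ w ∈ (T : Subgroup H), w * z = z * w)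
    (hz2 : z * z = 1) (hz1 : z ≠ 1) (hzr : z ∈ zpowers r) (hsq : ∀ w ∈ (T : Subgroup H), w * w ∈ zpowers r)
    (hyT : y ∈ (T : Subgroup H)) (hys : Commute y s) (hyy : y * y = z) (hsz : s ≠ z)
    (hconj : ∃ g : H, g * s * g⁻¹ = z) : False := by
  obtain ⟨g, hg⟩ := hconj
  obtain ⟨k, hk, hkT⟩ := move T hzT hzc hg
  have hw := hkT y hyT hys
  have h1 : k * z * k⁻¹ ∈ zpowers r := by
    rw [← hyy, show k * (y * y) * k⁻¹ = k * y * k⁻¹ * (k * y * k⁻¹) by group]; exact hsq _ hw
  have h2 := invol_unique h1 hzr (by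
    rw [show k * z * k⁻¹ * (k * z * k⁻¹) = k * (z * z) * k⁻¹ by group, hz2]; group) hz2
    (fun e => hz1 (conj_eq_one_iff.1 e)) hz1
  exact hsz ((MulAut.conj k).injective (hk.trans h2.symm))

/-- Thompson transfer inside `A`. -/
theorem transferA {N : Subgroup H} (hN : ∀ g ∈ N, g ∈ (T : Subgroup H) ∧ g ∈ A) {v : H}
    (hvT : v ∈ (T : Subgroup H)) (hvA : v ∈ A) (hvN : v ∉ N)
    (hidx : ∀ g ∈ (T : Subgroup H), g ∈ A → g ∈ N ∨ g * v ∈ N) {u : H} (huA : u ∈ A) (hu2 : u * u = 1)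
    (hu1 : u ≠ 1) : ∃ g : H, g * u * g⁻¹ ∈ N := by
  obtain ⟨P, hP⟩ := h.exists_P
  obtain ⟨g, hg⟩ := transfer P h.perf (N.subgroupOf A) (fun a ha => (hP a).2 (hN _ ha).1)
    (v := ⟨v, hvA⟩) ((hP _).2 hvT) hvN (fun a ha => hidx a ((hP a).1 ha) a.2)
    (u := ⟨u, huA⟩) (orderOf_eq_prime (Subtype.ext (by simp [pow_two, hu2]))
      fun k => hu1 (congrArg Subtype.val k))
  exact ⟨g, hg⟩

end Ctx

end Cfsg.Agent.SemiRankOne
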