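import Mathlib
import Cfsg.Agent.Lib.SemiRankOne.Setup
import Cfsg.Agent.Lib.CentFour.TwoGroup

/-!
No four-group of `A` is normal in the Sylow 2-subgroup: modulo it, `t` has centralizer of order four.
-/

set_option autoImplicit false
set_option linter.all false

namespace Cfsg.Agent.SemiRankOne.Ctx

open Subgroup
open scoped commutatorElement

universe u

variable {H : Type u} [Group H] [Finite H] {A : Subgroup H} {T : Sylow 2 H} {t x : H}

/-- A four-group `{1, x², e, e x²}` of `A`, normal in `T`. -/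
structure NormFour (A : Subgroup H) (T : Sylow 2 H) (t x e : H) : Prop where
  ctx : Ctx A T t x
  eT : e ∈ (T : Subgroup H)
  eA : e ∈ A
  e2 : e * e = 1
  e1 : e ≠ 1
  ez : e ≠ x * x
  zc : ∀ w ∈ (T : Subgroup H), w * (x * x) = x * x * w
  move : ∀ w ∈ (T : Subgroup H), w * e * w⁻¹ = e ∨ w * e * w⁻¹ = e * (x * x)

namespace NormFour

variable {e : H} (h : NormFour A T t x e)
include h

theorem tet : t * e * t = e * (x * x) := by
  have hti : t⁻¹ = t := inv_eq_of_mul_eq_one_right h.ctx.t2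
  rcases h.move t h.ctx.tT with k | k <;> rw [hti] at k
  · exfalso
    refine h.ez (h.ctx.fixed_invol h.eT h.eA ?_ h.e2 h.e1)
    show e * t = t * e
    nth_rw 1 [← k]
    rw [mul_assoc, h.ctx.t2, mul_one]
  · exact k

theorem ze : Commute (x * x) e := (h.zc e h.eT).symm

theorem sq {a : H} (ha : a ∈ four (x * x) e) : a * a = 1 := by
  rcases ha with rfl | rfl | rfl | rfl
  exacts [one_mul 1, h.ctx.x2_sq, h.e2, by rw [h.ze.mul_mul_mul_comm, h.e2, h.ctx.x2_sq, one_mul]]

theorem fmem {a : H} (ha : a ∈ four (x * x) e) : a ∈ (T : Subgroup H) ∧ a ∈ A := by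
  rcases ha with rfl | rfl | rfl | rfl
  exacts [⟨one_mem _, one_mem _⟩, ⟨mul_mem h.ctx.xT h.ctx.xT, mul_mem h.ctx.xA h.ctx.xA⟩, ⟨h.eT, h.eA⟩,
    ⟨mul_mem h.eT (mul_mem h.ctx.xT h.ctx.xT), mul_mem h.eA (mul_mem h.ctx.xA h.ctx.xA)⟩]

theorem comm_four {a g : H} (ha : a ∈ four (x * x) e) (hgT : g ∈ (T : Subgroup H)) (hge : Commute g e) :
    Commute g a := by
  rcases ha with rfl | rfl | rfl | rfl
  exacts [Commute.one_right g, h.zc g hgT, hge, hge.mul_right (h.zc g hgT)]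

theorem pair {a b : H} (ha : a ∈ four (x * x) e) (hb : b ∈ four (x * x) e) : Commute a b :=
  h.comm_four hb (h.fmem ha).1 (h.comm_four ha h.eT (Commute.refl e)).symm

theorem fmul {a b : H} (ha : a ∈ four (x * x) e) (hb : b ∈ four (x * x) e) : a * b ∈ four (x * x) e := by
  set z := x * x with hz
  have hz2 : z * z = 1 := h.ctx.x2_sq
  have h1 : z * e = e * z := h.ze.eq
  have h2 : z * (e * z) = e := by rw [← mul_assoc, h1, mul_assoc, hz2, mul_one]
  have h3 : e * (e * z) = z := by rw [← mul_assoc, h.e2, one_mul]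
  have h4 : e * z * z = e := by rw [mul_assoc, hz2, mul_one]
  have h5 : e * z * e = z := by rw [mul_assoc, h1, h3]
  have h6 : e * z * (e * z) = 1 := by rw [mul_assoc, h2, h.e2]
  show a * b = 1 ∨ a * b = z ∨ a * b = e ∨ a * b = e * z
  rcases ha with k | k | k | k <;> rcases hb with k' | k' | k' | k' <;> rw [k, k'] <;>
    simp only [one_mul, mul_one, hz2, h.e2, h1, h2, h3, h4, h5, h6, true_or, or_true]

/-- An element of `A` whose commutator with `t` is in the four-group. -/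
theorem near_fixed {s : H} (hsT : s ∈ (T : Subgroup H)) (hsA : s ∈ A) (hs : s⁻¹ * (t * s * t) ∈ four (x * x) e) :
    ∃ i : ℤ, ∃ g ∈ four (x * x) e, s = x ^ i * g := by
  have hti : t⁻¹ = t := inv_eq_of_mul_eq_one_right h.ctx.t2
  set α := s⁻¹ * (t * s * t) with hα
  have hαi : α⁻¹ = α := inv_eq_of_mul_eq_one_right (h.sq hs)
  have htα : t * α * t = α := by
    calc t * α * t = t * s⁻¹ * t * s * (t * t) := by rw [hα]; group
      _ = α⁻¹ := by
        rw [h.ctx.t2, mul_one, hα, mul_inv_rev, mul_inv_rev, mul_inv_rev, inv_inv, hti]; group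
      _ = α := hαi
  have hzt : t * (x * x) * t = x * x := by rw [← h.ctx.x2_t.eq, mul_assoc, h.ctx.t2, mul_one]
  have hst : t * s * t = s * α := by rw [hα, mul_inv_cancel_left]
  rcases hs with k | k | k | k
  · obtain ⟨i, hi⟩ := mem_zpowers_iff.1 (h.ctx.cent s hsT hsA (by
      show s * t = t * s
      rw [k, mul_one] at hst
      nth_rw 1 [← hst]
      rw [mul_assoc, h.ctx.t2, mul_one]))
    exact ⟨i, 1, Or.inl rfl, by rw [hi, mul_one]⟩
  · obtain ⟨i, hi⟩ := mem_zpowers_iff.1 (h.ctx.cent (s * e) (mul_mem hsT h.eT) (mul_mem hsA h.eA) (by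
      show s * e * t = t * (s * e)
      have h2 : t * (s * e) * t = s * e := by
        rw [show t * (s * e) * t = t * s * (t * t) * e * t by rw [h.ctx.t2]; group,
          show t * s * (t * t) * e * t = (t * s * t) * (t * e * t) by group, hst, k, h.tet,
          show s * (x * x) * (e * (x * x)) = s * ((x * x) * e * (x * x)) by group, h.ze.eq, mul_assoc e,
          h.ctx.x2_sq, mul_one]
      nth_rw 1 [← h2]
      rw [mul_assoc, h.ctx.t2, mul_one]))
    exact ⟨i, e, Or.inr (Or.inr (Or.inl rfl)), by rw [hi, mul_assoc, h.e2, mul_one]⟩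
  · exfalso
    rw [k, h.tet] at htα
    exact h.ctx.x2_ne (mul_eq_left.1 htα)
  · exfalso
    rw [k, show t * (e * (x * x)) * t = t * e * (t * t) * (x * x) * t by rw [h.ctx.t2]; group,
      show t * e * (t * t) * (x * x) * t = (t * e * t) * (t * (x * x) * t) by group, h.tet, hzt] at htα
    exact h.ctx.x2_ne (mul_eq_left.1 htα)

/-- The abelian case. -/
theorem no_abelian' (hab : ∀ v ∈ (T : Subgroup H), v ∈ A → ∀ w ∈ (T : Subgroup H), w ∈ A → v * w = w * v)
    (hinv : ∀ v ∈ (T : Subgroup H), v ∈ A → v * v = 1 → v ∈ four (x * x) e) : False := by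
  obtain ⟨P, hP⟩ := h.ctx.exists_P
  refine no_abelian P h.ctx.perf (fun v hv w hw => Subtype.ext (hab v ((hP v).1 hv) v.2 w ((hP w).1 hw) w.2))
    (x := ⟨x, h.ctx.xA⟩) (e := ⟨e, h.eA⟩) ((hP _).2 h.ctx.xT) (by rw [Subgroup.orderOf_mk]; exact h.ctx.x4)
    ((hP _).2 h.eT) (Subtype.ext h.e2) (fun k => h.e1 (congrArg Subtype.val k))
    (fun k => h.ez (congrArg Subtype.val k)) fun v hv hv2 => ?_
  rcases hinv v ((hP v).1 hv) v.2 (congrArg Subtype.val hv2) with k | k | k | k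
  exacts [Or.inl (Subtype.ext k), Or.inr (Or.inl (Subtype.ext k)), Or.inr (Or.inr (Or.inl (Subtype.ext k))),
    Or.inr (Or.inr (Or.inr (Subtype.ext k)))]

/-- `T ∩ A` of order eight. -/
theorem small_case (hform : ∀ s ∈ (T : Subgroup H), s ∈ A → ∃ i : ℤ, ∃ g ∈ four (x * x) e, s = x ^ i * g) :
    False := by
  have hti : t⁻¹ = t := inv_eq_of_mul_eq_one_right h.ctx.t2
  have hei : e⁻¹ = e := inv_eq_of_mul_eq_one_right h.e2
  have hx2 : ∀ i : ℤ, x ^ i * x ^ i = 1 → x ^ i = 1 ∨ x ^ i = x * x := fun i =>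
    eq_top_of_sq (q := 1) ⟨0, rfl⟩ h.ctx.x2_sq h.ctx.x2_ne (by rw [mul_one, pow_two]) i
  rcases h.move x h.ctx.xT with hxe | hxe
  · have hxe' : Commute x e := mul_inv_eq_iff_eq_mul.1 hxe
    refine h.no_abelian' (fun v hv hvA w hw hwA => ?_) fun v hv hvA hv2 => ?_
    · obtain ⟨i, g, hg, rfl⟩ := hform v hv hvA
      obtain ⟨j, k, hk, rfl⟩ := hform w hw hwA
      exact ((((Commute.refl x).zpow_zpow i j).mul_right ((h.comm_four hk h.ctx.xT hxe').zpow_left i)).mul_left
        ((((h.comm_four hg h.ctx.xT hxe').zpow_left j).symm).mul_right (h.pair hg hk))).eq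
    · obtain ⟨i, g, hg, rfl⟩ := hform v hv hvA
      rw [((h.comm_four hg h.ctx.xT hxe').zpow_left i).symm.mul_mul_mul_comm, h.sq hg, mul_one] at hv2
      rcases hx2 i hv2 with k | k <;> rw [k]
      · rw [one_mul]; exact hg
      · exact h.fmul (Or.inr (Or.inl rfl)) hg
  · have hzr : x * x ∈ zpowers x := mul_mem (mem_zpowers x) (mem_zpowers x)
    have hex : e * x * e⁻¹ = x * x * x := by
      have h1 : x * e = e * (x * x) * x := mul_inv_eq_iff_eq_mul.1 hxe
      rw [hei, show e * x * e = e * (x * e) by group, h1,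
        show e * (e * (x * x) * x) = (e * e) * (x * x * x) by group, h.e2, one_mul]
    have hgx : ∀ g ∈ four (x * x) e, ∀ i : ℤ, g * x ^ i * g⁻¹ ∈ zpowers x := by
      intro g hg i
      rw [← conj_zpow]
      refine zpow_mem ?_ i
      rcases hg with k | k | k | k <;> rw [k]
      · rw [one_mul, inv_one, mul_one]; exact mem_zpowers x
      · rw [show x * x * x * (x * x)⁻¹ = x by group]; exact mem_zpowers x
      · rw [hex]; exact mul_mem hzr (mem_zpowers x)
      · rw [show e * (x * x) * x * (e * (x * x))⁻¹ = e * x * e⁻¹ by group, hex]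
        exact mul_mem hzr (mem_zpowers x)
    have he : e ∉ zpowers x := by
      intro k
      obtain ⟨i, hi⟩ := mem_zpowers_iff.1 k
      rcases hx2 i (hi ▸ h.e2) with k' | k'
      exacts [h.e1 (hi.symm.trans k'), h.ez (hi.symm.trans k')]
    obtain ⟨g, hg⟩ := h.ctx.transferA (N := zpowers x)
      (fun g hg => ⟨zpowers_le.2 h.ctx.xT hg, zpowers_le.2 h.ctx.xA hg⟩) h.eT h.eA he (fun s hs hsA => by
        obtain ⟨i, g, hg, rfl⟩ := hform s hs hsA
        rcases hg with rfl | rfl | k | k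
        · exact Or.inl (by rw [mul_one]; exact zpow_mem (mem_zpowers x) i)
        · exact Or.inl (mul_mem (zpow_mem (mem_zpowers x) i) hzr)
        · exact Or.inr (by rw [k, mul_assoc, h.e2, mul_one]; exact zpow_mem (mem_zpowers x) i)
        · refine Or.inr ?_
          rw [k, mul_assoc, mul_assoc e, h.ze.eq, ← mul_assoc e e, h.e2, one_mul]
          exact mul_mem (zpow_mem (mem_zpowers x) i) hzr) h.eA h.e2 h.e1
    have hgz : g * e * g⁻¹ = x * x := invol_unique hg hzr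
      (by rw [show g * e * g⁻¹ * (g * e * g⁻¹) = g * (e * e) * g⁻¹ by group, h.e2]; group) h.ctx.x2_sq
      (fun k => h.e1 (conj_eq_one_iff.1 k)) h.ctx.x2_ne
    refine h.ctx.twist (r := x) (y := x * t) (mul_mem h.ctx.xT h.ctx.xT) h.zc h.ctx.x2_sq h.ctx.x2_ne hzr ?_
      (mul_mem h.ctx.xT h.ctx.tT) ?_ ?_ h.ez ⟨g, hgz⟩
    · intro w hw
      rcases h.ctx.idx w with hA | hA
      · obtain ⟨i, g, hg, rfl⟩ := hform w hw hA
        rw [show x ^ i * g * (x ^ i * g) = x ^ i * (g * x ^ i * g⁻¹) * (g * g) by group, h.sq hg, mul_one]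
        exact mul_mem (zpow_mem (mem_zpowers x) i) (hgx g hg i)
      · obtain ⟨i, g, hg, k⟩ := hform (w * t) (mul_mem hw h.ctx.tT) hA
        have e1 : w = x ^ i * g * t := by rw [← k, mul_assoc, h.ctx.t2, mul_one]
        have e2 : g * (t * g * t) ∈ zpowers x := by
          have ht1 : t * (x * x) * t = x * x := by rw [← h.ctx.x2_t.eq, mul_assoc, h.ctx.t2, mul_one]
          rcases hg with k' | k' | k' | k' <;> rw [k']
          · rw [mul_one, h.ctx.t2, mul_one]; exact one_mem _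
          · rw [ht1]; exact mul_mem hzr hzr
          · rw [h.tet, ← mul_assoc, h.e2, one_mul]; exact hzr
          · rw [show t * (e * (x * x)) * t = t * e * (t * t) * (x * x) * t by rw [h.ctx.t2]; group,
              show t * e * (t * t) * (x * x) * t = (t * e * t) * (t * (x * x) * t) by group, h.tet, ht1,
              mul_assoc e (x * x) (x * x), h.ctx.x2_sq, mul_one, mul_assoc, h.ze.eq, ← mul_assoc, h.e2, one_mul]
            exact hzr
        have e3 : t * x ^ i * t = x ^ i := by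
          rw [← (h.ctx.xt.zpow_left i).eq, mul_assoc, h.ctx.t2, mul_one]
        have e4 : t * (x ^ i * g) * t = x ^ i * (t * g * t) := by
          rw [show t * (x ^ i * g) * t = t * x ^ i * (t * t) * g * t by rw [h.ctx.t2]; group,
            show t * x ^ i * (t * t) * g * t = (t * x ^ i * t) * (t * g * t) by group, e3]
        rw [e1, show x ^ i * g * t * (x ^ i * g * t) = x ^ i * g * (t * (x ^ i * g) * t) by group, e4,
          show x ^ i * g * (x ^ i * (t * g * t)) = x ^ i * (g * x ^ i * g⁻¹) * (g * (t * g * t)) by group]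
        exact mul_mem (mul_mem (zpow_mem (mem_zpowers x) i) (hgx g hg i)) e2
    · show x * t * e = e * (x * t)
      have h1 : x * e = e * (x * x) * x := mul_inv_eq_iff_eq_mul.1 hxe
      rw [show x * t * e = x * (t * e * t) * t by
        rw [show x * (t * e * t) * t = x * t * e * (t * t) by group, h.ctx.t2, mul_one], h.tet,
        show x * (e * (x * x)) * t = x * e * (x * x) * t by group, h1,
        show e * (x * x) * x * (x * x) * t = e * (x * x * (x * x)) * (x * t) by group, h.ctx.x2_sq, mul_one]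
    · rw [h.ctx.xt.symm.mul_mul_mul_comm, h.ctx.t2, mul_one]

/-- `T ∩ A` is cyclic modulo the four-group. -/
theorem cyclic_case {c : H} {q : ℕ} (hq : ∃ n : ℕ, q = 2 ^ n) (hcT : c ∈ (T : Subgroup H)) (hcA : c ∈ A)
    (htop : c ^ (4 * q) = x * x)
    (hform : ∀ s ∈ (T : Subgroup H), s ∈ A → ∃ i : ℤ, ∃ g ∈ four (x * x) e, s = c ^ i * g) : False := by
  have hq2 : ∃ n : ℕ, 2 * q = 2 ^ n := by obtain ⟨n, rfl⟩ := hq; exact ⟨n + 1, by ring⟩
  have htop' : c ^ (2 * (2 * q)) = x * x := by rw [← htop]; ring_nf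
  have huniq := eq_top_of_sq hq2 h.ctx.x2_sq h.ctx.x2_ne htop'
  rcases h.move c hcT with hce | hce
  · have hce' : Commute c e := mul_inv_eq_iff_eq_mul.1 hce
    refine h.no_abelian' (fun v hv hvA w hw hwA => ?_) fun v hv hvA hv2 => ?_
    · obtain ⟨i, g, hg, rfl⟩ := hform v hv hvA
      obtain ⟨j, k, hk, rfl⟩ := hform w hw hwA
      exact ((((Commute.refl c).zpow_zpow i j).mul_right ((h.comm_four hk hcT hce').zpow_left i)).mul_left
        ((((h.comm_four hg hcT hce').zpow_left j).symm).mul_right (h.pair hg hk))).eq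
    · obtain ⟨i, g, hg, rfl⟩ := hform v hv hvA
      rw [((h.comm_four hg hcT hce').zpow_left i).symm.mul_mul_mul_comm, h.sq hg, mul_one] at hv2
      rcases huniq i hv2 with k | k <;> rw [k]
      · rw [one_mul]; exact hg
      · exact h.fmul (Or.inr (Or.inl rfl)) hg
  · have hei : e⁻¹ = e := inv_eq_of_mul_eq_one_right h.e2
    have hzr : x * x ∈ zpowers c := htop ▸ pow_mem (mem_zpowers c) _
    have hec : e * c * e⁻¹ = x * x * c := by
      have h1 : c * e = e * (x * x) * c := mul_inv_eq_iff_eq_mul.1 hce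
      rw [hei, show e * c * e = e * (c * e) by group, h1,
        show e * (e * (x * x) * c) = (e * e) * (x * x * c) by group, h.e2, one_mul]
    have hgc : ∀ g ∈ four (x * x) e, ∀ i : ℤ, g * c ^ i * g⁻¹ ∈ zpowers c := by
      intro g hg i
      rw [← conj_zpow]
      refine zpow_mem ?_ i
      have hzc : c * (x * x) = x * x * c := h.zc c hcT
      rcases hg with k | k | k | k <;> rw [k]
      · rw [one_mul, inv_one, mul_one]; exact mem_zpowers c
      · rw [← hzc, mul_inv_cancel_right]; exact mem_zpowers c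
      · rw [hec]; exact mul_mem hzr (mem_zpowers c)
      · rw [show e * (x * x) * c * (e * (x * x))⁻¹ = e * (x * x * c * (x * x)⁻¹) * e⁻¹ by group, ← hzc,
          mul_inv_cancel_right, hec]
        exact mul_mem hzr (mem_zpowers c)
    have he : e ∉ zpowers c := by
      intro k
      obtain ⟨i, hi⟩ := mem_zpowers_iff.1 k
      rcases huniq i (hi ▸ h.e2) with k' | k'
      exacts [h.e1 (hi.symm.trans k'), h.ez (hi.symm.trans k')]
    obtain ⟨g, hg⟩ := h.ctx.transferA (N := zpowers c)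
      (fun g hg => ⟨zpowers_le.2 hcT hg, zpowers_le.2 hcA hg⟩) h.eT h.eA he (fun s hs hsA => by
        obtain ⟨i, g, hg, rfl⟩ := hform s hs hsA
        rcases hg with rfl | rfl | k | k
        · exact Or.inl (by rw [mul_one]; exact zpow_mem (mem_zpowers c) i)
        · exact Or.inl (mul_mem (zpow_mem (mem_zpowers c) i) hzr)
        · exact Or.inr (by rw [k, mul_assoc, h.e2, mul_one]; exact zpow_mem (mem_zpowers c) i)
        · refine Or.inr ?_
          rw [k, mul_assoc, mul_assoc e, h.ze.eq, ← mul_assoc e e, h.e2, one_mul]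
          exact mul_mem (zpow_mem (mem_zpowers c) i) hzr) h.eA h.e2 h.e1
    have hgz : g * e * g⁻¹ = x * x := invol_unique hg hzr
      (by rw [show g * e * g⁻¹ * (g * e * g⁻¹) = g * (e * e) * g⁻¹ by group, h.e2]; group) h.ctx.x2_sq
      (fun k => h.e1 (conj_eq_one_iff.1 k)) h.ctx.x2_ne
    obtain ⟨k, hk, hkT⟩ := SemiRankOne.move T (mul_mem h.ctx.xT h.ctx.xT) h.zc hgz
    have hc2e : Commute (c * c) e := mul_inv_eq_iff_eq_mul.1 (by
      rw [show c * c * e * (c * c)⁻¹ = c * (c * e * c⁻¹) * c⁻¹ by group, hce,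
        show c * (e * (x * x)) * c⁻¹ = c * e * (x * x * c⁻¹) by group, ← h.zc _ (inv_mem hcT),
        show c * e * (c⁻¹ * (x * x)) = (c * e * c⁻¹) * (x * x) by group, hce, mul_assoc, h.ctx.x2_sq, mul_one])
    set v := k * (c * c) * k⁻¹ with hv
    have hvT : v ∈ (T : Subgroup H) := hkT _ (mul_mem hcT hcT) hc2e
    obtain ⟨i, w, hw, hvi⟩ := hform v hvT (h.ctx.conjA (mul_mem hcA hcA))
    have hvv : v * v ∈ zpowers c := by
      rw [hvi, show c ^ i * w * (c ^ i * w) = c ^ i * (w * c ^ i * w⁻¹) * (w * w) by group, h.sq hw, mul_one]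
      exact mul_mem (zpow_mem (mem_zpowers c) i) (hgc w hw i)
    have hkz : k * (x * x) * k⁻¹ = x * x := by
      refine invol_unique ?_ hzr
        (by rw [show k * (x * x) * k⁻¹ * (k * (x * x) * k⁻¹) = k * (x * x * (x * x)) * k⁻¹ by group,
          h.ctx.x2_sq]; group) h.ctx.x2_sq (fun j => h.ctx.x2_ne (conj_eq_one_iff.1 j)) h.ctx.x2_ne
      have e1 : k * (x * x) * k⁻¹ = (v * v) ^ q := by
        rw [hv, show k * (c * c) * k⁻¹ * (k * (c * c) * k⁻¹) = MulAut.conj k (c * c * (c * c)) by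
          rw [MulAut.conj_apply]; group, ← map_pow, show c * c * (c * c) = c ^ 4 by simp [pow_succ, mul_assoc],
          ← pow_mul, htop, MulAut.conj_apply]
      rw [e1]
      exact pow_mem hvv q
    exact h.ez ((MulAut.conj k).injective (hk.trans hkz.symm))

theorem contradiction : False := by
  classical
  haveI : Fact (Nat.Prime 2) := ⟨Nat.prime_two⟩
  have hti : t⁻¹ = t := inv_eq_of_mul_eq_one_right h.ctx.t2
  set Tg := (T : Subgroup H) with hTg
  let E : Subgroup ↥Tg :=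
    { carrier := {g | (g : H) ∈ four (x * x) e}
      one_mem' := Or.inl rfl
      mul_mem' := fun {a b} ha hb => h.fmul ha hb
      inv_mem' := fun {a} ha => by
        show ((a⁻¹ : ↥Tg) : H) ∈ four (x * x) e
        rw [Subgroup.coe_inv, inv_eq_of_mul_eq_one_right (h.sq ha)]
        exact ha }
  haveI : E.Normal := ⟨fun a ha g => by
    show (g : H) * a * (g : H)⁻¹ ∈ four (x * x) e
    have hz : (g : H) * (x * x) * (g : H)⁻¹ = x * x := by rw [h.zc g g.2, mul_inv_cancel_right]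
    rcases ha with k | k | k | k <;> rw [k]
    · exact Or.inl (by group)
    · exact Or.inr (Or.inl hz)
    · rcases h.move g g.2 with j | j
      exacts [Or.inr (Or.inr (Or.inl j)), Or.inr (Or.inr (Or.inr j))]
    · rw [show (g : H) * (e * (x * x)) * (g : H)⁻¹ = (g : H) * e * (g : H)⁻¹ * ((g : H) * (x * x) * (g : H)⁻¹) by
        group, hz]
      rcases h.move g g.2 with j | j <;> rw [j]
      · exact Or.inr (Or.inr (Or.inr rfl))
      · rw [mul_assoc, h.ctx.x2_sq, mul_one]; exact Or.inr (Or.inr (Or.inl rfl))⟩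
  set π := QuotientGroup.mk' E with hπ
  have hπ1 : ∀ g : ↥Tg, π g = 1 ↔ (g : H) ∈ four (x * x) e := fun g => QuotientGroup.eq_one_iff g
  have hπe : ∀ g g' : ↥Tg, π g = π g' → ∃ a ∈ four (x * x) e, (g : H) = g' * a := fun g g' k => by
    refine ⟨(g' : H)⁻¹ * g, ?_, by rw [mul_inv_cancel_left]⟩
    exact (hπ1 (g'⁻¹ * g)).1 (by rw [map_mul, map_inv, k, inv_mul_cancel])
  set xT : ↥Tg := ⟨x, h.ctx.xT⟩ with hxT
  set tT : ↥Tg := ⟨t, h.ctx.tT⟩ with htT
  set τ := π tT with hτ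
  set ξ := π xT with hξ
  have hτ2 : τ * τ = 1 := by
    rw [hτ, ← map_mul, show tT * tT = 1 from Subtype.ext h.ctx.t2, map_one]
  have hξ2 : ξ * ξ = 1 := by
    rw [hξ, ← map_mul, hπ1]; exact Or.inr (Or.inl rfl)
  -- lifts in `A`
  have hsep : ∀ g g' : ↥Tg, π g = π g' → ((g : H) ∈ A ↔ (g' : H) ∈ A) := fun g g' k => by
    obtain ⟨a, ha, e1⟩ := hπe g g' k
    rw [e1]
    exact A.mul_mem_cancel_right (h.fmem ha).2
  have hcentA : ∀ g : ↥Tg, (g : H) ∈ A → Commute (π g) τ → ∃ i : ℤ, ∃ w ∈ four (x * x) e, (g : H) = x ^ i * w := by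
    intro g hg hc
    refine h.near_fixed g.2 hg ?_
    refine (hπ1 (g⁻¹ * (tT * g * tT))).1 ?_
    rw [map_mul, map_mul, map_mul, map_inv]
    show (π g)⁻¹ * (τ * π g * τ) = 1
    rw [← hc.eq, mul_assoc (π g), hτ2, mul_one, inv_mul_cancel]
  have hC : ∀ g : ↥Tg, Commute (π g) τ → π g ∈ ({1, ξ, τ, ξ * τ} : Set (↥Tg ⧸ E)) := by
    have key : ∀ g : ↥Tg, (g : H) ∈ A → Commute (π g) τ → π g = 1 ∨ π g = ξ := by
      intro g hg hc
      obtain ⟨i, w, hw, hgw⟩ := hcentA g hg hc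
      have e1 : π g = ξ ^ i := by
        rw [hξ, ← map_zpow]
        have : g = xT ^ i * ⟨w, (h.fmem hw).1⟩ := Subtype.ext (by
          rw [Subgroup.coe_mul, SubgroupClass.coe_zpow]; exact hgw)
        rw [this, map_mul, (hπ1 ⟨w, (h.fmem hw).1⟩).2 hw, mul_one]
      rcases Int.even_or_odd i with k | k
      · exact Or.inl (e1.trans ((zpow_of_sq hξ2 i).1 k))
      · exact Or.inr (e1.trans ((zpow_of_sq hξ2 i).2 k))
    intro g hc
    rcases h.ctx.idx (g : H) with hA | hA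
    · rcases key g hA hc with k | k
      exacts [Or.inl k, Or.inr (Or.inl k)]
    · have hg : π g = π (g * tT) * τ := by rw [hτ, map_mul, mul_assoc, hτ2, mul_one]
      rcases key (g * tT) hA (by rw [map_mul]; exact hc.mul_left (Commute.refl τ)) with k | k <;> rw [k] at hg
      · rw [one_mul] at hg; exact Or.inr (Or.inr (Or.inl hg))
      · exact Or.inr (Or.inr (Or.inr hg))
  have hξτ : Commute ξ τ := (show Commute xT tT from Subtype.ext h.ctx.xt.eq).map π
  have hξ1 : ξ ≠ 1 := fun k => by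
    have := h.sq ((hπ1 xT).1 k)
    exact h.ctx.x2_ne this
  have hnotA : ∀ g : ↥Tg, π g = τ → (g : H) ∉ A := fun g k j => h.ctx.tA ((hsep g tT k).1 j)
  -- the centralizer of `τ`
  set C := centralizer ({τ} : Set (↥Tg ⧸ E)) with hCdef
  have hC4 : Nat.card C ≤ 4 := by
    have hsub : (C : Set (↥Tg ⧸ E)) ⊆ {1, ξ, τ, ξ * τ} := fun q hq => by
      obtain ⟨g, rfl⟩ := QuotientGroup.mk'_surjective E q
      exact hC g (mem_centralizer_singleton_iff.1 hq)
    have h1 := Set.ncard_le_ncard hsub (Set.toFinite _)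
    rw [← Nat.card_coe_set_eq] at h1
    refine h1.trans ((Set.ncard_insert_le _ _).trans (Nat.succ_le_succ ((Set.ncard_insert_le _ _).trans
      (Nat.succ_le_succ ((Set.ncard_insert_le _ _).trans (Nat.succ_le_succ (Set.ncard_singleton _).le))))))
  rcases CentFour.structure_of_small_centralizer (T.2.to_quotient E) τ hC4 with hsmall | ⟨m, a, y, hao, hcard, hya, hrel⟩
  · -- order four
    refine h.small_case fun s hs hsA => ?_
    have htop : C = ⊤ := eq_top_of_le_card _ (hsmall.trans (by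
      have hd : ({1, ξ, τ, ξ * τ} : Set (↥Tg ⧸ E)) ⊆ C := by
        have h1 : ξ ∈ C := mem_centralizer_singleton_iff.2 hξτ.eq
        have h2 : τ ∈ C := mem_centralizer_singleton_iff.2 rfl
        rintro q (rfl | rfl | rfl | rfl)
        exacts [one_mem _, h1, h2, mul_mem h1 h2]
      have h1 := Set.ncard_le_ncard hd (Set.toFinite _)
      have hτ1 : τ ≠ 1 := fun k => hnotA 1 ((map_one π).trans k.symm) (one_mem A)
      have hτξ : τ ≠ ξ := fun k => hnotA xT k.symm h.ctx.xA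
      rw [Set.ncard_insert_of_notMem, Set.ncard_insert_of_notMem, Set.ncard_pair, ← Nat.card_coe_set_eq] at h1
      · exact h1
      · exact fun k => hξ1 (mul_eq_right.1 k.symm)
      · simp only [Set.mem_insert_iff, Set.mem_singleton_iff, not_or]
        exact ⟨hτξ.symm, fun k => hτ1 (left_eq_mul.1 k)⟩
      · simp only [Set.mem_insert_iff, Set.mem_singleton_iff, not_or]
        refine ⟨hξ1.symm, hτ1.symm, fun k => hτξ ?_⟩
        rw [eq_inv_of_mul_eq_one_right k.symm, inv_eq_of_mul_eq_one_right hξ2]))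
    have hsC : π ⟨s, hs⟩ ∈ C := by rw [htop]; exact mem_top _
    exact hcentA ⟨s, hs⟩ hsA (mem_centralizer_singleton_iff.1 hsC)
  -- maximal class
  set Q := 2 ^ m with hQdef
  have hQ : ∃ n : ℕ, Q = 2 ^ n := ⟨m, rfl⟩
  have hQpos : 0 < Q := Nat.two_pow_pos m
  have hao' : orderOf a = 4 * Q := by rw [hao, hQdef]; ring
  have hone : ∀ i : ℤ, a ^ i = 1 ↔ 4 * (Q : ℤ) ∣ i := fun i => by
    rw [← orderOf_dvd_iff_zpow_eq_one, hao']; push_cast; rfl
  have heq : ∀ i j : ℤ, a ^ i = a ^ j ↔ 4 * (Q : ℤ) ∣ i - j := fun i j => by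
    rw [← hone, zpow_sub, mul_inv_eq_one]
  set j := a ^ (2 * (Q : ℤ)) with hj
  have hj2 : j * j = 1 := by rw [hj, ← zpow_add, hone]; exact ⟨1, by ring⟩
  have hj1 : j ≠ 1 := by
    rw [hj, Ne, hone]
    intro k
    have := Int.le_of_dvd (by positivity) k
    have : (0 : ℤ) < Q := by exact_mod_cast hQpos
    omega
  obtain ⟨ε, hyε, hε⟩ : ∃ ε : ℤ, y * a * y⁻¹ = a ^ ε ∧
      ((ε = -1 ∧ y * y = 1) ∨ (ε = -1 ∧ y * y = j) ∨ (1 ≤ m ∧ ε = 2 * Q - 1 ∧ y * y = 1)) := by
    have hc : ((2 ^ (m + 1) : ℕ) : ℤ) = 2 * (Q : ℤ) := by rw [hQdef]; push_cast; ring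
    rcases hrel with ⟨k1, k2⟩ | ⟨k1, k2⟩ | ⟨k0, k1, k2⟩
    · exact ⟨-1, by rw [k1, zpow_neg_one], Or.inl ⟨rfl, k2⟩⟩
    · exact ⟨-1, by rw [k1, zpow_neg_one], Or.inr (Or.inl ⟨rfl, by rw [k2, hj, ← zpow_natCast, hc]⟩)⟩
    · refine ⟨2 * Q - 1, ?_, Or.inr (Or.inr ⟨k0, rfl, k2⟩)⟩
      rw [k1, ← zpow_natCast]
      congr 1
      have : 1 ≤ 2 ^ (m + 1) := Nat.one_le_two_pow
      rw [Nat.cast_sub this, hc]; rfl
  have hεodd : Odd ε := by
    rcases hε with ⟨k, -⟩ | ⟨k, -⟩ | ⟨-, k, -⟩ <;> rw [k]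
    exacts [⟨-1, rfl⟩, ⟨-1, rfl⟩, ⟨(Q : ℤ) - 1, by ring⟩]
  have hidx : ∀ q : ↥Tg ⧸ E, q ∈ zpowers a ∨ q * y ∈ zpowers a := by
    have hi : (zpowers a).index = 2 := by
      have h1 := (zpowers a).card_mul_index
      rw [Nat.card_zpowers, hao, hcard, show m + 3 = m + 2 + 1 from rfl, pow_succ 2 (m + 2)] at h1
      exact Nat.eq_of_mul_eq_mul_left (Nat.two_pow_pos _) h1
    intro q
    by_cases hq : q ∈ zpowers a
    · exact Or.inl hq
    · exact Or.inr ((mul_mem_iff_of_index_two hi).2 (iff_of_false hq hya))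
  have hjc : ∀ q : ↥Tg ⧸ E, Commute q j := by
    intro q
    have hyj : Commute y j := mul_inv_eq_iff_eq_mul.1 (by
      rw [hj, ← conj_zpow, hyε, ← zpow_mul, heq]
      obtain ⟨l, hl⟩ := hεodd
      exact ⟨l, by rw [hl]; ring⟩)
    rcases hidx q with k | k
    · obtain ⟨i, rfl⟩ := mem_zpowers_iff.1 k
      exact (Commute.refl a).zpow_zpow i _
    · obtain ⟨i, hi⟩ := mem_zpowers_iff.1 k
      rw [show q = a ^ i * y⁻¹ by rw [hi, mul_inv_cancel_right]]
      exact ((Commute.refl a).zpow_zpow i _).mul_left hyj.inv_left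
  have hτa : τ ∉ zpowers a := by
    intro k
    have hτj : τ = j := invol_unique k (zpow_mem (mem_zpowers a) _) hτ2 hj2
      (fun k' => hnotA 1 ((map_one π).trans k'.symm) (one_mem A)) hj1
    have htop : C = ⊤ := (eq_top_iff' C).2 fun q => mem_centralizer_singleton_iff.2 (hτj ▸ (hjc q).eq)
    rw [htop, Subgroup.card_top, hcard, show m + 3 = m + 1 + 2 from rfl, pow_add] at hC4
    have : 2 ≤ 2 ^ (m + 1) := by rw [pow_succ]; have := Nat.one_le_two_pow (n := m); omega
    omega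
  obtain ⟨i₀, hi₀⟩ := mem_zpowers_iff.1 ((hidx τ).resolve_left hτa)
  have hτy : τ = a ^ i₀ * y⁻¹ := by rw [hi₀, mul_inv_cancel_right]
  have hτaτ : τ * a * τ⁻¹ = a ^ ε := by
    rw [hτy]
    have hy' : y⁻¹ * a * y = a ^ ε := by
      have h2 : Commute (y * y) a := by
        rcases hε with ⟨-, k⟩ | ⟨-, k⟩ | ⟨-, -, k⟩ <;> rw [k]
        exacts [Commute.one_left a, ((Commute.refl a).zpow_left _), Commute.one_left a]
      rw [← hyε, show y⁻¹ * a * y = y⁻¹ * (a * (y * y)) * y⁻¹ by group, ← h2.eq]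
      group
    rw [show a ^ i₀ * y⁻¹ * a * (a ^ i₀ * y⁻¹)⁻¹ = a ^ i₀ * (y⁻¹ * a * y) * (a ^ i₀)⁻¹ by group, hy',
      ((Commute.refl a).zpow_zpow i₀ ε).eq, mul_inv_cancel_right]
  have hε' : (ε = -1) ∨ (1 ≤ m ∧ ε = 2 * Q - 1) := by
    rcases hε with ⟨k, -⟩ | ⟨k, -⟩ | ⟨k0, k, -⟩
    exacts [Or.inl k, Or.inl k, Or.inr ⟨k0, k⟩]
  have hτpow : ∀ i : ℤ, τ * a ^ i = a ^ (ε * i) * τ := fun i => by
    rw [← mul_inv_eq_iff_eq_mul, ← conj_zpow, hτaτ, zpow_mul]
  have hallform : ∀ q : ↥Tg ⧸ E, ∃ i : ℤ, q = a ^ i ∨ q = a ^ i * τ := by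
    intro q
    rcases hidx q with k | k
    · obtain ⟨i, rfl⟩ := mem_zpowers_iff.1 k; exact ⟨i, Or.inl rfl⟩
    · obtain ⟨i, hi⟩ := mem_zpowers_iff.1 k
      exact ⟨i - i₀, Or.inr (by rw [hτy, ← mul_assoc, ← zpow_add, sub_add_cancel, hi, mul_inv_cancel_right])⟩
  obtain ⟨α, hα⟩ := QuotientGroup.mk'_surjective E a
  have hαj : (α : H) ^ (2 * (Q : ℤ)) ∈ A := by
    rcases h.ctx.idx (α : H) with k | k
    · exact zpow_mem k _
    · rw [zpow_mul]
      refine zpow_mem ?_ _
      haveI := h.ctx.normal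
      have h1 : (α : H) * α = ((α : H) * t) * (t * ((α : H) * t) * t⁻¹) := by
        rw [show t * ((α : H) * t) * t⁻¹ = t * α by group, mul_assoc (α : H) t, ← mul_assoc t t, h.ctx.t2, one_mul]
      rw [zpow_two, h1]
      exact mul_mem k (h.ctx.conjA k)
  have hjξ : j = ξ := by
    have hπj : π (α ^ (2 * (Q : ℤ))) = j := by rw [map_zpow, hα]
    have := hC (α ^ (2 * (Q : ℤ))) (by rw [hπj]; exact (hjc τ).symm)
    rw [hπj] at this
    have hA : ∀ g : ↥Tg, π g = j → (g : H) ∈ A := fun g k =>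
      (hsep g (α ^ (2 * (Q : ℤ))) (k.trans hπj.symm)).2 (by rw [SubgroupClass.coe_zpow]; exact hαj)
    rcases this with k | k | k | k
    · exact absurd k hj1
    · exact k
    · exact absurd (hA tT k.symm) h.ctx.tA
    · have h1 := hA (xT * tT) (by rw [map_mul]; exact k.symm)
      exact absurd ((A.mul_mem_cancel_left h.ctx.xA).1 h1) h.ctx.tA
  have hlift : ∀ g g' : ↥Tg, π g = π g' → ∃ w ∈ four (x * x) e, (g : H) = g' * w := hπe
  have hsq2 : ∀ c : H, c ∈ (T : Subgroup H) → Commute (c * c) e := by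
    intro c hc
    rcases h.move c hc with k | k
    · exact (show Commute c e from mul_inv_eq_iff_eq_mul.1 k).mul_left (mul_inv_eq_iff_eq_mul.1 k)
    · refine mul_inv_eq_iff_eq_mul.1 ?_
      rw [show c * c * e * (c * c)⁻¹ = c * (c * e * c⁻¹) * c⁻¹ by group, k,
        show c * (e * (x * x)) * c⁻¹ = c * e * (x * x * c⁻¹) by group, ← h.zc _ (inv_mem hc),
        show c * e * (c⁻¹ * (x * x)) = (c * e * c⁻¹) * (x * x) by group, k, mul_assoc, h.ctx.x2_sq, mul_one]
  by_cases hαA : (α : H) ∈ A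
  · -- cyclic
    refine h.cyclic_case hQ α.2 hαA ?_ fun s hs hsA => ?_
    · obtain ⟨w, hw, hcw⟩ := hlift (α ^ (2 * (Q : ℤ))) xT (by rw [map_zpow, hα]; exact hjξ)
      rw [SubgroupClass.coe_zpow] at hcw
      have hxw : Commute x w := by
        refine h.comm_four hw h.ctx.xT ?_
        have hxe : x = (α : H) ^ (2 * (Q : ℤ)) * w⁻¹ := by rw [hcw]; simp [xT]
        rw [hxe]
        refine Commute.mul_left ?_ ((h.comm_four hw h.eT (Commute.refl e)).symm.inv_left)
        rw [zpow_mul, zpow_two]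
        exact (hsq2 _ α.2).zpow_left _
      have hcw' : (α : H) ^ (2 * (Q : ℤ)) = x * w := hcw
      rw [← zpow_natCast, show ((4 * Q : ℕ) : ℤ) = 2 * (Q : ℤ) + 2 * Q by push_cast; ring, zpow_add, hcw',
        hxw.symm.mul_mul_mul_comm, h.sq hw, mul_one]
    · obtain ⟨i, k | k⟩ := hallform (π ⟨s, hs⟩)
      · obtain ⟨w, hw, e1⟩ := hlift ⟨s, hs⟩ (α ^ i) (by rw [map_zpow, hα]; exact k)
        exact ⟨i, w, hw, by rw [SubgroupClass.coe_zpow] at e1; exact e1⟩
      · exfalso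
        have h2 := (hsep ⟨s, hs⟩ (α ^ i * tT) (by rw [map_mul, map_zpow, hα]; exact k)).1 hsA
        rw [Subgroup.coe_mul, SubgroupClass.coe_zpow] at h2
        exact h.ctx.tA ((A.mul_mem_cancel_left (zpow_mem hαA i)).1 h2)
  -- dihedral or quaternion
  have hαtA : (α : H) * t ∈ A := (h.ctx.idx (α : H)).resolve_left hαA
  set c₀ : ↥Tg := α * α with hc₀
  set r₀ : ↥Tg := α * tT with hr₀
  have hπc : π c₀ = a ^ (2 : ℤ) := by rw [hc₀, map_mul, hα, zpow_two]
  have hπr : π r₀ = a * τ := by rw [hr₀, map_mul, hα]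
  have hc₀A : (c₀ : H) ∈ A := by
    have h1 : (c₀ : H) = ((α : H) * t) * (t * ((α : H) * t) * t⁻¹) := by
      rw [hc₀, Subgroup.coe_mul, show t * ((α : H) * t) * t⁻¹ = t * α by group, mul_assoc (α : H) t,
        ← mul_assoc t t, h.ctx.t2, one_mul]
    rw [h1]
    exact mul_mem hαtA (h.ctx.conjA hαtA)
  have hπcz : ∀ i : ℤ, π (c₀ ^ i) = a ^ (2 * i) := fun i => by rw [map_zpow, hπc, ← zpow_mul]
  have hrsq : π (r₀ * r₀) = a ^ (1 + ε) := by
    rw [map_mul, hπr, show a * τ * (a * τ) = a * (τ * a * τ⁻¹) * (τ * τ) by group, hτaτ, hτ2, mul_one,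
      zpow_one_add]
  obtain ⟨l, hlodd, hl⟩ : ∃ l : ℤ, Odd l ∧ 2 * l = ε - 1 := by
    rcases hε' with k | ⟨k0, k⟩
    · exact ⟨-1, ⟨-1, rfl⟩, by omega⟩
    · refine ⟨(Q : ℤ) - 1, ?_, by omega⟩
      obtain ⟨m', rfl⟩ := Nat.exists_eq_succ_of_ne_zero (show m ≠ 0 by omega)
      exact ⟨2 ^ m' - 1, by rw [hQdef, pow_succ]; push_cast; ring⟩
  -- `r` and its conjugate by `t`
  obtain ⟨w₁, hw₁, hr'⟩ : ∃ w ∈ four (x * x) e, t * (r₀ : H) * t = (c₀ : H) ^ l * r₀ * w := by
    obtain ⟨w, hw, e1⟩ := hlift (tT * r₀ * tT) (c₀ ^ l * r₀) (by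
      rw [map_mul, map_mul, hπr, map_mul, hπcz, hπr]
      show τ * (a * τ) * τ = a ^ (2 * l) * (a * τ)
      rw [hl, show τ * (a * τ) * τ = (τ * a ^ (1 : ℤ)) * (τ * τ) by group, hτ2, mul_one, hτpow, mul_one,
        ← mul_assoc, ← zpow_add_one, sub_add_cancel])
    exact ⟨w, hw, by simpa [tT] using e1⟩
  have hrw : ∀ w ∈ four (x * x) e, w * e * w⁻¹ = e := fun w hw => by
    rw [(h.comm_four hw h.eT (Commute.refl e)).symm.eq, mul_inv_cancel_right]
  have hzc' : ∀ g ∈ (T : Subgroup H), ∀ b : H, g * (b * (x * x)) * g⁻¹ = g * b * g⁻¹ * (x * x) := by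
    intro g hg b
    rw [show g * b * g⁻¹ * (x * x) = g * b * (g⁻¹ * (x * x)) by group, h.zc _ (inv_mem hg)]
    group
  have hce : Commute (c₀ : H) e := by
    refine mul_inv_eq_iff_eq_mul.1 ?_
    rcases h.move c₀ c₀.2 with k | k
    · exact k
    · exfalso
      have hc2 : Commute ((c₀ : H) * c₀) e := hsq2 _ c₀.2
      have hcl : (c₀ : H) ^ l * e * ((c₀ : H) ^ l)⁻¹ = e * (x * x) := by
        obtain ⟨l', rfl⟩ := hlodd
        rw [add_comm, zpow_add, zpow_one, zpow_mul, zpow_two,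
          show (c₀ : H) * ((c₀ : H) * c₀) ^ l' * e * ((c₀ : H) * ((c₀ : H) * c₀) ^ l')⁻¹ =
            (c₀ : H) * (((c₀ : H) * c₀) ^ l' * e * (((c₀ : H) * c₀) ^ l')⁻¹) * (c₀ : H)⁻¹ by group,
          (hc2.zpow_left l').eq, mul_inv_cancel_right, k]
      have hrT : (r₀ : H) ∈ (T : Subgroup H) := r₀.2
      obtain ⟨d, hd, hre⟩ : ∃ d : H, (d = 1 ∨ d = x * x) ∧ (r₀ : H) * e * (r₀ : H)⁻¹ = e * d := by
        rcases h.move _ hrT with k' | k'
        exacts [⟨1, Or.inl rfl, by rw [mul_one, k']⟩, ⟨x * x, Or.inr rfl, k'⟩]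
      have hdc : ∀ g ∈ (T : Subgroup H), g * d * g⁻¹ = d := fun g hg => by
        rcases hd with rfl | rfl
        · group
        · rw [h.zc g hg, mul_inv_cancel_right]
      -- compare the actions of `r` and `t r t` on `e`
      have h1 : t * (r₀ : H) * t * e * (t * (r₀ : H) * t)⁻¹ = e * d := by
        rw [show t * (r₀ : H) * t * e * (t * (r₀ : H) * t)⁻¹ = t * (r₀ : H) * (t * e * t⁻¹) * (r₀ : H)⁻¹ * t⁻¹ by
          group, hti, h.tet, show t * (r₀ : H) * (e * (x * x)) * (r₀ : H)⁻¹ * t =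
            t * ((r₀ : H) * (e * (x * x)) * (r₀ : H)⁻¹) * t by group, hzc' _ hrT, hre,
          show t * (e * d * (x * x)) * t = t * e * (t * t) * d * (t * t) * (x * x) * t by
            rw [h.ctx.t2]; group,
          show t * e * (t * t) * d * (t * t) * (x * x) * t = (t * e * t) * (t * d * t) * (t * (x * x) * t) by group,
          h.tet, ← h.ctx.x2_t.eq, mul_assoc (x * x), h.ctx.t2, mul_one]
        have := hdc t h.ctx.tT
        rw [hti] at this
        rw [this, mul_assoc, mul_assoc e, ← mul_assoc (x * x)]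
        have hcd : x * x * d = d * (x * x) := by
          rcases hd with rfl | rfl
          · rw [mul_one, one_mul]
          · rfl
        rw [hcd, mul_assoc d, h.ctx.x2_sq, mul_one]
      have h2 : t * (r₀ : H) * t * e * (t * (r₀ : H) * t)⁻¹ = e * d * (x * x) := by
        rw [hr', show (c₀ : H) ^ l * r₀ * w₁ * e * ((c₀ : H) ^ l * r₀ * w₁)⁻¹ =
          (c₀ : H) ^ l * ((r₀ : H) * (w₁ * e * w₁⁻¹) * (r₀ : H)⁻¹) * ((c₀ : H) ^ l)⁻¹ by group, hrw _ hw₁, hre,
          show (c₀ : H) ^ l * (e * d) * ((c₀ : H) ^ l)⁻¹ =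
            (c₀ : H) ^ l * e * ((c₀ : H) ^ l)⁻¹ * ((c₀ : H) ^ l * d * ((c₀ : H) ^ l)⁻¹) by group, hcl,
          hdc _ (zpow_mem c₀.2 l), mul_assoc e (x * x) d, mul_assoc e d (x * x)]
        congr 1
        rcases hd with rfl | rfl <;> simp
      exact h.ctx.x2_ne (mul_eq_left.1 (h2.symm.trans h1))
  have hcw : ∀ w ∈ four (x * x) e, Commute (c₀ : H) w := fun w hw => h.comm_four hw c₀.2 hce
  have hctop : (c₀ : H) ^ (2 * Q) = x * x := by
    obtain ⟨w, hw, e1⟩ := hlift (c₀ ^ (Q : ℤ)) xT (by rw [hπcz]; exact hjξ)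
    rw [SubgroupClass.coe_zpow] at e1
    have hxw : Commute x w := by
      refine h.comm_four hw h.ctx.xT ?_
      have hxe : x = (c₀ : H) ^ (Q : ℤ) * w⁻¹ := by rw [e1]; simp [xT]
      rw [hxe]
      exact (hce.zpow_left _).mul_left ((h.comm_four hw h.eT (Commute.refl e)).symm.inv_left)
    rw [← zpow_natCast, show ((2 * Q : ℕ) : ℤ) = (Q : ℤ) + Q by push_cast; ring, zpow_add,
      show (c₀ : H) ^ (Q : ℤ) = x * w from e1, hxw.symm.mul_mul_mul_comm, h.sq hw, mul_one]
  obtain ⟨P, hP⟩ := h.ctx.exists_P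
  have hfourA : ∀ w ∈ four (x * x) e, ∃ w' : ↥A, (w' : H) = w ∧
      w' ∈ four ((⟨x * x, mul_mem h.ctx.xA h.ctx.xA⟩ : ↥A)) ⟨e, h.eA⟩ := by
    intro w hw
    refine ⟨⟨w, (h.fmem hw).2⟩, rfl, ?_⟩
    rcases hw with k | k | k | k
    exacts [Or.inl (Subtype.ext k), Or.inr (Or.inl (Subtype.ext k)), Or.inr (Or.inr (Or.inl (Subtype.ext k))),
      Or.inr (Or.inr (Or.inr (Subtype.ext k)))]
  have hfourH : ∀ w : ↥A, w ∈ four ((⟨x * x, mul_mem h.ctx.xA h.ctx.xA⟩ : ↥A)) ⟨e, h.eA⟩ →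
      (w : H) ∈ four (x * x) e := by
    rintro w (rfl | rfl | rfl | rfl)
    exacts [Or.inl rfl, Or.inr (Or.inl rfl), Or.inr (Or.inr (Or.inl rfl)), Or.inr (Or.inr (Or.inr rfl))]
  have hr₀A : (r₀ : H) ∈ A := hαtA
  have hsh : Shape (P : Subgroup ↥A) ⟨c₀, hc₀A⟩ ⟨r₀, hr₀A⟩ ⟨e, h.eA⟩ ⟨x * x, mul_mem h.ctx.xA h.ctx.xA⟩ Q :=
    { cP := (hP _).2 c₀.2
      rP := (hP _).2 r₀.2
      eP := (hP _).2 h.eT
      q_two := hQ
      top := Subtype.ext (by rw [SubmonoidClass.coe_pow]; exact hctop)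
      z2 := Subtype.ext h.ctx.x2_sq
      z1 := fun k => h.ctx.x2_ne (congrArg Subtype.val k)
      e2 := Subtype.ext h.e2
      e1 := fun k => h.e1 (congrArg Subtype.val k)
      ez := fun k => h.ez (congrArg Subtype.val k)
      ce := Subtype.ext hce.eq
      zc := fun w hw => Subtype.ext (h.zc w ((hP w).1 hw))
      form := by
        intro s hs
        have hsT := (hP s).1 hs
        obtain ⟨i, k | k⟩ := hallform (π ⟨s, hsT⟩)
        · rcases Int.even_or_odd i with ⟨i', rfl⟩ | ⟨i', rfl⟩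
          · obtain ⟨w, hw, e1⟩ := hlift ⟨s, hsT⟩ (c₀ ^ i') (by rw [hπcz, two_mul]; exact k)
            obtain ⟨w', hw', hw''⟩ := hfourA w hw
            refine ⟨i', w', hw'', Or.inl (Subtype.ext ?_)⟩
            rw [Subgroup.coe_mul, SubgroupClass.coe_zpow, hw']
            simpa using e1
          · exfalso
            have h1 := (hsep ⟨s, hsT⟩ (c₀ ^ i' * α) (by rw [map_mul, hπcz, hα, ← zpow_add_one]; exact k)).1 s.2
            rw [Subgroup.coe_mul, SubgroupClass.coe_zpow] at h1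
            exact hαA ((A.mul_mem_cancel_left (zpow_mem hc₀A i')).1 h1)
        · rcases Int.even_or_odd i with ⟨i', rfl⟩ | ⟨i', rfl⟩
          · exfalso
            have h1 := (hsep ⟨s, hsT⟩ (c₀ ^ i' * tT) (by rw [map_mul, hπcz, two_mul]; exact k)).1 s.2
            rw [Subgroup.coe_mul, SubgroupClass.coe_zpow] at h1
            exact h.ctx.tA ((A.mul_mem_cancel_left (zpow_mem hc₀A i')).1 h1)
          · obtain ⟨w, hw, e1⟩ := hlift ⟨s, hsT⟩ (c₀ ^ i' * r₀) (by
              rw [map_mul, hπcz, hπr, ← mul_assoc, ← zpow_add_one]; exact k)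
            -- move `w` to the left of `r`
            have hrw' : (r₀ : H) * w * (r₀ : H)⁻¹ ∈ four (x * x) e :=
              Subgroup.Normal.conj_mem (inferInstance : E.Normal) ⟨w, (h.fmem hw).1⟩ hw r₀
            obtain ⟨w', hw', hw''⟩ := hfourA _ hrw'
            refine ⟨i', w', hw'', Or.inr (Subtype.ext ?_)⟩
            rw [Subgroup.coe_mul, Subgroup.coe_mul, SubgroupClass.coe_zpow, hw']
            have e2 : (s : H) = (c₀ : H) ^ i' * r₀ * w := by simpa using e1
            rw [e2]; group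
      out := by
        intro i g hg k
        have k' : (r₀ : H) = (c₀ : H) ^ i * g := by
          have := congrArg Subtype.val k
          simpa using this
        have h1 : π r₀ = π (c₀ ^ i) := by
          have : r₀ = c₀ ^ i * ⟨g, (h.fmem (hfourH g hg)).1⟩ :=
            Subtype.ext (k'.trans (by simp))
          rw [this, map_mul, (hπ1 ⟨g, (h.fmem (hfourH g hg)).1⟩).2 (hfourH g hg), mul_one]
        rw [hπr, hπcz] at h1
        refine hτa (mem_zpowers_iff.2 ⟨2 * i - 1, ?_⟩)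
        rw [← eq_inv_mul_iff_mul_eq] at h1
        rw [h1, ← zpow_neg_one, ← zpow_add]
        congr 1
        ring
      rc := by
        obtain ⟨w, hw, e1⟩ := hlift (r₀ * c₀ * r₀⁻¹) (c₀⁻¹) (by
          rw [map_mul, map_mul, map_inv, map_inv, hπr, hπc,
            show a * τ * a ^ (2 : ℤ) * (a * τ)⁻¹ = a * (τ * a ^ (2 : ℤ) * τ⁻¹) * a⁻¹ by group, hτpow,
            mul_inv_cancel_right, ← zpow_one_add, ← zpow_neg_one a, ← zpow_add, ← zpow_neg, heq]
          rcases hε' with k | ⟨-, k⟩ <;> rw [k]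
          exacts [⟨0, by ring⟩, ⟨1, by ring⟩])
        obtain ⟨w', hw', hw''⟩ := hfourA w hw
        refine ⟨w', hw'', Subtype.ext ?_⟩
        simpa [hw'] using e1
      re := by
        rcases h.move r₀ r₀.2 with k | k
        exacts [Or.inl (Subtype.ext k), Or.inr (Subtype.ext k)]
      rr := by
        rcases hε' with k | ⟨k0, k⟩
        · left
          have h1 : (r₀ : H) * r₀ ∈ four (x * x) e :=
            (hπ1 (r₀ * r₀)).1 (by rw [hrsq, k, add_neg_cancel, zpow_zero])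
          obtain ⟨w', hw', hw''⟩ := hfourA _ h1
          exact (Subtype.ext hw' : w' = (⟨r₀, hr₀A⟩ : ↥A) * ⟨r₀, hr₀A⟩) ▸ hw''
        · right
          refine ⟨?_, ?_⟩
          · obtain ⟨m', rfl⟩ := Nat.exists_eq_succ_of_ne_zero (show m ≠ 0 by omega)
            exact ⟨2 ^ m', by rw [hQdef, pow_succ]; ring⟩
          · obtain ⟨w, hw, e1⟩ := hlift (r₀ * r₀) (c₀ ^ (Q : ℤ)) (by
              rw [hrsq, hπcz, k]; congr 1; ring)
            obtain ⟨w', hw', hw''⟩ := hfourA w hw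
            refine ⟨w', hw'', Subtype.ext ?_⟩
            simpa [hw', SubgroupClass.coe_zpow, zpow_natCast] using e1
      twin := by
        have hrw' : (r₀ : H) * w₁ * (r₀ : H)⁻¹ ∈ four (x * x) e :=
          Subgroup.Normal.conj_mem (inferInstance : E.Normal) ⟨w₁, (h.fmem hw₁).1⟩ hw₁ r₀
        obtain ⟨w', hw', hw''⟩ := hfourA _ hrw'
        refine ⟨l, w', hw'', hlodd, ?_⟩
        rw [Subtype.ext_iff, Subtype.ext_iff]
        simp only [Subgroup.coe_mul, SubgroupClass.coe_zpow, Subgroup.coe_one, hw']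
        rw [show (c₀ : H) ^ l * ((r₀ : H) * w₁ * (r₀ : H)⁻¹) * (r₀ : H) = t * (r₀ : H) * t by rw [hr']; group,
          show t * (r₀ : H) * t * (t * (r₀ : H) * t) = t * ((r₀ : H) * (t * t) * r₀) * t by group, h.ctx.t2, mul_one]
        constructor
        · intro k
          have := congrArg (fun g => t * g * t) k
          simp only [mul_one, h.ctx.t2] at this
          rwa [show t * (t * ((r₀ : H) * r₀) * t) * t = (t * t) * ((r₀ : H) * r₀) * (t * t) by group, h.ctx.t2,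
            one_mul, mul_one] at this
        · intro k
          rw [k, mul_one, h.ctx.t2] }
  exact hsh.elim h.ctx.perf h.ctx.solv (fun N hN => h.ctx.odd hN) h.ctx.odd

end NormFour

end Cfsg.Agent.SemiRankOne.Ctx
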