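import Mathlib
import Cfsg.Agent.Lib.SemiRankOne.Setup

/-!
The Sylow subgroup of `A` is not of maximal class.
-/

set_option autoImplicit false
set_option linter.all false

namespace Cfsg.Agent.SemiRankOne.Ctx

open Subgroup

universe u

variable {H : Type u} [Group H] [Finite H] {A : Subgroup H} {T : Sylow 2 H} {t x : H}

/-- A cyclic subgroup `⟨r⟩` of order `4 q`, normalised by `T`, of index two in `T ∩ A` with complement `⟨s⟩`. -/
structure Max (A : Subgroup H) (T : Sylow 2 H) (t x r s : H) (q : ℕ) (ε : ℤ) : Prop where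
  ctx : Ctx A T t x
  q_two : ∃ n : ℕ, q = 2 ^ n
  top : r ^ (2 * q) = x * x
  rT : r ∈ (T : Subgroup H)
  rA : r ∈ A
  sT : s ∈ (T : Subgroup H)
  sA : s ∈ A
  s2 : s * s = 1
  sr : s ∉ zpowers r
  form : ∀ g ∈ (T : Subgroup H), g ∈ A → ∃ i : ℤ, g = r ^ i ∨ g = r ^ i * s
  conj_s : s * r * s⁻¹ = r ^ ε
  four : (4 : ℤ) ∣ ε + 1
  near : (2 * (q : ℤ)) ∣ ε + 1
  norm : ∀ g ∈ (T : Subgroup H), ∃ k : ℤ, g * r * g⁻¹ = r ^ k

namespace Max

variable {r s : H} {q : ℕ} {ε : ℤ} (h : Max A T t x r s q ε)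
include h

theorem q_pos : 0 < q := by
  obtain ⟨n, rfl⟩ := h.q_two
  positivity

theorem order : orderOf r = 4 * q := orderOf_of_top h.q_two h.ctx.x2_sq h.ctx.x2_ne h.top

theorem one_iff (a : ℤ) : r ^ a = 1 ↔ 4 * (q : ℤ) ∣ a := by
  rw [← orderOf_dvd_iff_zpow_eq_one, h.order]; push_cast; rfl

theorem eq_iff (a b : ℤ) : r ^ a = r ^ b ↔ 4 * (q : ℤ) ∣ a - b := by
  rw [← h.one_iff, zpow_sub, mul_inv_eq_one]

theorem ztop : r ^ (2 * (q : ℤ)) = x * x := by
  rw [show 2 * (q : ℤ) = ((2 * q : ℕ) : ℤ) by push_cast; ring, zpow_natCast, h.top]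

theorem z_mem : x * x ∈ zpowers r := h.top ▸ pow_mem (mem_zpowers r) _

theorem dvd_of_odd {a b : ℤ} {c : ℕ} (hc : ∃ n : ℕ, c = 2 ^ n) (hb : Odd b) (hd : (c : ℤ) ∣ b * a) : (c : ℤ) ∣ a := by
  obtain ⟨n, rfl⟩ := hc
  push_cast at hd ⊢
  exact Components.FourAction.dvd_of_mul_odd hb hd

theorem dvd_half {a b : ℤ} (hb : Odd b) (hd : 4 * (q : ℤ) ∣ 2 * (b * a)) : 2 * (q : ℤ) ∣ a := by
  obtain ⟨n, hn⟩ := h.q_two
  have h1 : ((2 * q : ℕ) : ℤ) ∣ b * a := by
    push_cast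
    rw [show 4 * (q : ℤ) = 2 * (2 * q) by ring] at hd
    exact (mul_dvd_mul_iff_left two_ne_zero).1 hd
  have := h.dvd_of_odd (c := 2 * q) ⟨n + 1, by rw [hn]; ring⟩ hb h1
  push_cast at this
  exact this

theorem zc : ∀ w ∈ (T : Subgroup H), w * (x * x) = x * x * w := by
  intro w hw
  obtain ⟨k, hk⟩ := h.norm w hw
  refine mul_inv_eq_iff_eq_mul.1 (invol_unique (d := r) ?_ h.z_mem ?_ h.ctx.x2_sq ?_ h.ctx.x2_ne)
  · rw [← h.ztop, ← conj_zpow, hk]
    exact zpow_mem (zpow_mem (mem_zpowers r) k) _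
  · rw [show w * (x * x) * w⁻¹ * (w * (x * x) * w⁻¹) = w * (x * x * (x * x)) * w⁻¹ by group, h.ctx.x2_sq]
    group
  · exact fun e => h.ctx.x2_ne (conj_eq_one_iff.1 e)

theorem sr_pow (i : ℤ) : s * r ^ i = r ^ (ε * i) * s := by
  rw [← mul_inv_eq_iff_eq_mul, ← conj_zpow, h.conj_s, zpow_mul]

theorem out (i j : ℤ) : r ^ i * s ≠ r ^ j := fun e => h.sr (mem_zpowers_iff.2 ⟨-i + j, by
  rw [zpow_add, zpow_neg, ← e, inv_mul_cancel_left]⟩)

theorem fused : ∃ g : H, g * s * g⁻¹ = x * x := by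
  obtain ⟨g, hg⟩ := h.ctx.transferA (N := zpowers r)
    (fun g hg => ⟨zpowers_le.2 h.rT hg, zpowers_le.2 h.rA hg⟩) h.sT h.sA h.sr (fun g hgT hgA => by
      obtain ⟨i, k | k⟩ := h.form g hgT hgA
      · exact Or.inl (k ▸ zpow_mem (mem_zpowers r) i)
      · exact Or.inr (by rw [k, mul_assoc, h.s2, mul_one]; exact zpow_mem (mem_zpowers r) i))
    h.sA h.s2 (fun e => h.sr (e ▸ one_mem _))
  refine ⟨g, invol_unique hg h.z_mem ?_ h.ctx.x2_sq (fun e => h.sr ?_) h.ctx.x2_ne⟩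
  · rw [show g * s * g⁻¹ * (g * s * g⁻¹) = g * (s * s) * g⁻¹ by group, h.s2]; group
  · rw [conj_eq_one_iff.1 e]; exact one_mem _

theorem t_data : ∃ κ m : ℤ, t * r * t = r ^ κ ∧ t * s * t = r ^ m * s ∧ 4 * (q : ℤ) ∣ κ * κ - 1 ∧
    4 * (q : ℤ) ∣ κ * m + m := by
  have hti : t⁻¹ = t := inv_eq_of_mul_eq_one_right h.ctx.t2
  obtain ⟨κ, hκ⟩ := h.norm t h.ctx.tT
  rw [hti] at hκ
  have hκi : ∀ i : ℤ, t * r ^ i * t = r ^ (κ * i) := fun i => by
    nth_rw 2 [← hti]
    rw [← conj_zpow, hti, hκ, zpow_mul]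
  obtain ⟨m, k | k⟩ := h.form (t * s * t) (mul_mem (mul_mem h.ctx.tT h.sT) h.ctx.tT)
    (by nth_rw 2 [← hti]; exact h.ctx.conjA h.sA)
  · exfalso
    refine h.sr (mem_zpowers_iff.2 ⟨κ * m, ?_⟩)
    rw [← hκi, ← k, show t * (t * s * t) * t = (t * t) * s * (t * t) by group, h.ctx.t2, one_mul, mul_one]
  · refine ⟨κ, m, hκ, k, ?_, ?_⟩
    · rw [← h.eq_iff, zpow_one, ← hκi κ, ← hκ, show t * (t * r * t) * t = (t * t) * r * (t * t) by group,
        h.ctx.t2, one_mul, mul_one]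
    · rw [← h.one_iff, zpow_add]
      have h2 : t * (r ^ m * s) * t = s := by
        rw [← k, show t * (t * s * t) * t = (t * t) * s * (t * t) by group, h.ctx.t2, one_mul, mul_one]
      rw [show t * (r ^ m * s) * t = t * r ^ m * (t * t) * s * t by rw [h.ctx.t2]; group,
        show t * r ^ m * (t * t) * s * t = (t * r ^ m * t) * (t * s * t) by group, hκi, k, ← mul_assoc] at h2
      exact mul_eq_right.1 h2

theorem squares : ∀ w ∈ (T : Subgroup H), w * w ∈ zpowers r := by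
  obtain ⟨κ, m, hκ, hm, -, -⟩ := h.t_data
  have hti : t⁻¹ = t := inv_eq_of_mul_eq_one_right h.ctx.t2
  have hκi : ∀ i : ℤ, t * r ^ i * t = r ^ (κ * i) := fun i => by
    nth_rw 2 [← hti]
    rw [← conj_zpow, hti, hκ, zpow_mul]
  intro w hw
  rcases h.ctx.idx w with hA | hA
  · obtain ⟨i, k | k⟩ := h.form w hw hA <;> rw [k]
    · exact mul_mem (zpow_mem (mem_zpowers r) i) (zpow_mem (mem_zpowers r) i)
    · rw [show r ^ i * s * (r ^ i * s) = r ^ i * (s * r ^ i) * s by group, h.sr_pow, mul_assoc,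
        mul_assoc (r ^ (ε * i)), h.s2, mul_one]
      exact mul_mem (zpow_mem (mem_zpowers r) i) (zpow_mem (mem_zpowers r) _)
  · obtain ⟨i, k | k⟩ := h.form (w * t) (mul_mem hw h.ctx.tT) hA
    · have : w = r ^ i * t := by rw [← k, mul_assoc, h.ctx.t2, mul_one]
      rw [this, show r ^ i * t * (r ^ i * t) = r ^ i * (t * r ^ i * t) by group, hκi]
      exact mul_mem (zpow_mem (mem_zpowers r) i) (zpow_mem (mem_zpowers r) _)
    · have : w = r ^ i * s * t := by rw [← k, mul_assoc, h.ctx.t2, mul_one]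
      have e : t * (r ^ i * s) * t = r ^ (κ * i + m) * s := by
        rw [show t * (r ^ i * s) * t = t * r ^ i * (t * t) * s * t by rw [h.ctx.t2]; group,
          show t * r ^ i * (t * t) * s * t = (t * r ^ i * t) * (t * s * t) by group, hκi, hm, ← mul_assoc, zpow_add]
      rw [this, show r ^ i * s * t * (r ^ i * s * t) = r ^ i * s * (t * (r ^ i * s) * t) by group, e,
        show r ^ i * s * (r ^ (κ * i + m) * s) = r ^ i * (s * r ^ (κ * i + m)) * s by group, h.sr_pow, mul_assoc,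
        mul_assoc (r ^ (ε * (κ * i + m))), h.s2, mul_one]
      exact mul_mem (zpow_mem (mem_zpowers r) i) (zpow_mem (mem_zpowers r) _)

theorem no_y {y : H} (hy : y ∈ (T : Subgroup H)) (hys : y * s * y⁻¹ = s) (hyy : y * y = x * x) : False :=
  h.ctx.twist (mul_mem h.ctx.xT h.ctx.xT) h.zc h.ctx.x2_sq h.ctx.x2_ne h.z_mem h.squares hy
    (mul_inv_eq_iff_eq_mul.1 hys) hyy (fun e => h.sr (e ▸ h.z_mem)) h.fused

/-- The semidihedral case, with `x = r s`. -/
theorem no_semi (hx : x = r * s) {κ : ℤ} (hκ : t * r * t = r ^ κ) (h2 : 2 * (q : ℤ) ∣ κ + 1) : False := by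
  classical
  haveI : Fact (Nat.Prime 2) := ⟨Nat.prime_two⟩
  have hti : t⁻¹ = t := inv_eq_of_mul_eq_one_right h.ctx.t2
  have hsi : s⁻¹ = s := inv_eq_of_mul_eq_one_right h.s2
  have hκi : ∀ i : ℤ, t * r ^ i * t = r ^ (κ * i) := fun i => by
    nth_rw 2 [← hti]
    rw [← conj_zpow, hti, hκ, zpow_mul]
  have hcast : (0 : ℤ) < q := by exact_mod_cast h.q_pos
  -- the action of `s`
  have hε : 4 * (q : ℤ) ∣ ε - (2 * q - 1) := by
    have h1 : r ^ (1 + ε) = x * x := by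
      rw [hx, show r * s * (r * s) = r * (s * r ^ (1 : ℤ)) * s by group, h.sr_pow, mul_one, mul_assoc,
        mul_assoc (r ^ ε), h.s2, mul_one, zpow_one_add]
    rw [← h.ztop, h.eq_iff] at h1
    rwa [show ε - (2 * (q : ℤ) - 1) = 1 + ε - 2 * q by ring]
  have hs : ∀ i : ℤ, s * r ^ i = r ^ ((2 * (q : ℤ) - 1) * i) * s := fun i => by
    rw [h.sr_pow, (h.eq_iff _ _).2]
    rw [← sub_mul]
    exact hε.mul_right i
  obtain ⟨n, hn⟩ := h.q_two
  have hqe : Even q := by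
    rcases n with _ | n
    · exfalso
      have hq1 : q = 1 := hn
      rw [hq1] at hε
      push_cast at hε
      have h4 := h.four
      omega
    · exact ⟨2 ^ n, by rw [hn]; ring⟩
  obtain ⟨q', hq'⟩ : (2 : ℤ) ∣ q := by
    obtain ⟨a, ha⟩ := hqe
    exact ⟨a, by rw [ha]; push_cast; ring⟩
  -- the action of `t` on `s`
  have hts : t * s * t = r ^ (1 - κ) * s := by
    have h1 : t * (r * s) * t = r * s := by
      rw [← hx, ← h.ctx.xt.eq, mul_assoc, h.ctx.t2, mul_one]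
    rw [show t * (r * s) * t = t * r * (t * t) * s * t by rw [h.ctx.t2]; group,
      show t * r * (t * t) * s * t = (t * r * t) * (t * s * t) by group, hκ] at h1
    rw [← eq_inv_mul_iff_mul_eq] at h1
    rw [h1, ← zpow_neg, ← mul_assoc, show (1 : ℤ) - κ = -κ + 1 by ring, zpow_add, zpow_one]
  obtain ⟨d, hd⟩ := h2
  rcases Int.even_or_odd d with ⟨d', hd'⟩ | ⟨d', hd'⟩
  swap
  · -- `t r t = r^(2q-1)`
    refine h.no_y (y := r ^ (-1 : ℤ) * t) (mul_mem (zpow_mem h.rT _) h.ctx.tT) ?_ ?_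
    · rw [show r ^ (-1 : ℤ) * t * s * (r ^ (-1 : ℤ) * t)⁻¹ = r ^ (-1 : ℤ) * (t * s * t⁻¹) * r ^ (1 : ℤ) by group,
        hti, hts, show r ^ (-1 : ℤ) * (r ^ (1 - κ) * s) * r ^ (1 : ℤ) = r ^ (-1 : ℤ) * r ^ (1 - κ) * (s * r ^ (1 : ℤ)) by
          group, hs, ← mul_assoc, ← zpow_add, ← zpow_add]
      conv_rhs => rw [← one_mul s, ← zpow_zero r]
      congr 1
      rw [h.eq_iff]
      refine ⟨-d', ?_⟩
      rw [show κ = 2 * (q : ℤ) * d - 1 by omega, hd']
      ring
    · rw [show r ^ (-1 : ℤ) * t * (r ^ (-1 : ℤ) * t) = r ^ (-1 : ℤ) * (t * r ^ (-1 : ℤ) * t) by group, hκi,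
        ← zpow_add, ← h.ztop, h.eq_iff]
      refine ⟨-d' - 1, ?_⟩
      rw [show κ = 2 * (q : ℤ) * d - 1 by omega, hd']
      ring
  -- `t r t = r⁻¹`
  have hκ1 : t * r * t = r ^ (-1 : ℤ) := by
    rw [hκ, h.eq_iff]
    exact ⟨d', by rw [show κ = 2 * (q : ℤ) * d - 1 by omega, hd']; ring⟩
  have hts2 : t * s * t = r ^ (2 : ℤ) * s := by
    rw [hts]
    congr 1
    rw [h.eq_iff]
    exact ⟨-d', by rw [show κ = 2 * (q : ℤ) * d - 1 by omega, hd']; ring⟩
  set v := s * t with hv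
  have hvi : ∀ i : ℤ, v * r ^ i * v⁻¹ = r ^ ((1 - 2 * (q : ℤ)) * i) := fun i => by
    rw [hv, mul_inv_rev, hti, hsi, show s * t * r ^ i * (t * s) = s * (t * r ^ i * t) * s by group]
    have : t * r ^ i * t = r ^ (-i) := by
      nth_rw 2 [← hti]
      rw [← conj_zpow, hti, hκ1, ← zpow_mul]; ring_nf
    rw [this, hs, mul_assoc, h.s2, mul_one]
    ring_nf
  have hvv : v * v = r ^ (4 * (q : ℤ) - 2) := by
    rw [hv, show s * t * (s * t) = s * (t * s * t) by group, hts2, ← mul_assoc, hs, mul_assoc, h.s2, mul_one]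
    ring_nf
  obtain ⟨M, hM⟩ := exists_ext (c := r) (v := v) (κ := 1 - 2 * (q : ℤ))
    (by simpa using hvi 1) (hvv ▸ zpow_mem (mem_zpowers r) _)
  have hvA : v ∉ A := fun k => h.ctx.tA (by
    have := mul_mem (inv_mem h.sA) k
    rwa [hv, inv_mul_cancel_left] at this)
  have hvT : v ∈ (T : Subgroup H) := mul_mem h.sT h.ctx.tT
  have hMT : M ≤ (T : Subgroup H) := fun g hg => by
    rcases (hM g).1 hg with ⟨i, rfl | rfl⟩
    exacts [zpow_mem h.rT i, mul_mem (zpow_mem h.rT i) hvT]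
  have htM : t ∉ M := fun k => by
    rcases (hM t).1 k with ⟨i, e | e⟩
    · exact h.ctx.tA (e.symm ▸ zpow_mem h.rA i)
    · rw [hv, ← mul_assoc, eq_comm, mul_eq_right] at e
      refine h.sr (mem_zpowers_iff.2 ⟨-i, ?_⟩)
      rw [zpow_neg, eq_inv_of_mul_eq_one_left e, inv_inv]
  have hidx : ∀ g ∈ (T : Subgroup H), g ∈ M ∨ g * t ∈ M := by
    intro g hg
    rcases h.ctx.idx g with hA | hA
    · obtain ⟨i, k | k⟩ := h.form g hg hA
      · exact Or.inl ((hM g).2 ⟨i, Or.inl k⟩)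
      · exact Or.inr ((hM _).2 ⟨i, Or.inr (by rw [k, hv, mul_assoc])⟩)
    · obtain ⟨i, k | k⟩ := h.form (g * t) (mul_mem hg h.ctx.tT) hA
      · exact Or.inr ((hM _).2 ⟨i, Or.inl k⟩)
      · exact Or.inl ((hM g).2 ⟨i, Or.inr (by rw [hv, ← mul_assoc, ← k, mul_assoc, h.ctx.t2, mul_one])⟩)
  set u := r ^ (1 + (q : ℤ)) * v with hu
  have hsq : ∀ b : ℤ, r ^ b * v * (r ^ b * v) = r ^ (b * (2 - 2 * (q : ℤ)) + (4 * q - 2)) := fun b => by
    rw [show r ^ b * v * (r ^ b * v) = r ^ b * (v * r ^ b * v⁻¹) * (v * v) by group, hvi, hvv, ← zpow_add,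
      ← zpow_add]
    ring_nf
  have hu2 : u * u = 1 := by
    rw [hu, hsq, h.one_iff]
    exact ⟨1 - q', by rw [hq']; ring⟩
  have huA : u ∉ A := fun k => hvA (by
    have := mul_mem (inv_mem (zpow_mem h.rA (1 + (q : ℤ)))) k
    rwa [hu, inv_mul_cancel_left] at this)
  have huT : u ∈ (T : Subgroup H) := mul_mem (zpow_mem h.rT _) hvT
  have huM : u ∈ M := (hM u).2 ⟨_, Or.inr rfl⟩
  set z := x * x with hz
  have hD : ∀ w ∈ M, w * w = 1 → w ∉ A → w = u ∨ w = z * u := by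
    intro w hw hw2 hwA
    rcases (hM w).1 hw with ⟨b, rfl | rfl⟩
    · exact absurd (zpow_mem h.rA b) hwA
    · rw [hsq, h.one_iff] at hw2
      have h1 : 2 * (q : ℤ) ∣ b - (1 + q) := by
        refine h.dvd_half (b := 1 - q) ⟨-q', by rw [hq']; ring⟩ ?_
        have h2 := hw2
        have h3 : 4 * (q : ℤ) ∣ (1 + (q : ℤ)) * (2 - 2 * q) + (4 * q - 2) := ⟨1 - q', by rw [hq']; ring⟩
        have h4 := dvd_sub h2 h3
        rwa [show b * (2 - 2 * (q : ℤ)) + (4 * q - 2) - ((1 + (q : ℤ)) * (2 - 2 * q) + (4 * q - 2)) =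
          2 * ((1 - (q : ℤ)) * (b - (1 + q))) by ring] at h4
      obtain ⟨j, hj⟩ := h1
      have : r ^ b * v = z ^ j * u := by
        rw [hu, ← mul_assoc (z ^ j), hz, ← h.ztop, ← zpow_mul, ← zpow_add, show b = 2 * (q : ℤ) * j + (1 + q) by omega]
      rw [this]
      rcases Int.even_or_odd j with k | k
      · left; rw [(zpow_of_sq h.ctx.x2_sq j).1 k, one_mul]
      · right; rw [(zpow_of_sq h.ctx.x2_sq j).2 k]
  have hru : r * u * r⁻¹ = z * u := by
    rw [hu, show r * (r ^ (1 + (q : ℤ)) * v) * r⁻¹ = r ^ (1 : ℤ) * r ^ (1 + (q : ℤ)) * (v * r ^ (-1 : ℤ) * v⁻¹) * v by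
      group, hvi, hz, ← h.ztop, ← mul_assoc (r ^ (2 * (q : ℤ))), ← zpow_add, ← zpow_add, ← zpow_add]
    congr 2
    ring
  -- `u` is not conjugate to `t`
  have hur : ∀ i : ℤ, u * r ^ (2 * i) * u⁻¹ = r ^ (2 * i) := fun i => by
    rw [hu, show r ^ (1 + (q : ℤ)) * v * r ^ (2 * i) * (r ^ (1 + (q : ℤ)) * v)⁻¹ =
      r ^ (1 + (q : ℤ)) * (v * r ^ (2 * i) * v⁻¹) * (r ^ (1 + (q : ℤ)))⁻¹ by group, hvi, ← zpow_neg,
      ← zpow_add, ← zpow_add, h.eq_iff]
    exact ⟨-i, by ring⟩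
  have hus : u * s * u⁻¹ = s := by
    have e : v * s * v⁻¹ = r ^ (-2 : ℤ) * s := by
      rw [hv, mul_inv_rev, hti, hsi, show s * t * s * (t * s) = s * (t * s * t) * s by group, hts2,
        show s * (r ^ (2 : ℤ) * s) * s = s * r ^ (2 : ℤ) * (s * s) by group, h.s2, mul_one, hs]
      congr 1
      rw [h.eq_iff]
      exact ⟨1, by ring⟩
    rw [hu, show r ^ (1 + (q : ℤ)) * v * s * (r ^ (1 + (q : ℤ)) * v)⁻¹ =
      r ^ (1 + (q : ℤ)) * (v * s * v⁻¹) * r ^ (-(1 + (q : ℤ))) by group, e,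
      show r ^ (1 + (q : ℤ)) * (r ^ (-2 : ℤ) * s) * r ^ (-(1 + (q : ℤ))) =
        r ^ (1 + (q : ℤ)) * r ^ (-2 : ℤ) * (s * r ^ (-(1 + (q : ℤ)))) by group, hs, ← mul_assoc, ← zpow_add,
      ← zpow_add]
    conv_rhs => rw [← one_mul s, ← zpow_zero r]
    congr 1
    rw [h.eq_iff]
    exact ⟨-q', by rw [hq']; ring⟩
  obtain ⟨R, hR⟩ := exists_ext (c := r ^ (2 : ℤ)) (v := s) (κ := -1) (by
    rw [hs, mul_assoc, hsi, h.s2, mul_one, zpow_neg_one, ← zpow_neg, h.eq_iff]
    exact ⟨1, by ring⟩) (by rw [h.s2]; exact one_mem _)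
  have hR2 : IsPGroup 2 R := T.2.to_le fun g hg => by
    rcases (hR g).1 hg with ⟨i, rfl | rfl⟩
    exacts [zpow_mem (zpow_mem h.rT _) i, mul_mem (zpow_mem (zpow_mem h.rT _) i) h.sT]
  have hR8 : 8 ≤ Nat.card R := by
    have hle : zpowers (r ^ (2 : ℤ)) ≤ R := zpowers_le.2 ((hR _).2 ⟨1, Or.inl (zpow_one _).symm⟩)
    have hsR : s ∈ R := (hR s).2 ⟨0, Or.inr (by simp)⟩
    have ho : 4 ≤ orderOf (r ^ (2 : ℤ)) := by
      rw [show (2 : ℤ) = ((2 : ℕ) : ℤ) from rfl, zpow_natCast, orderOf_pow' r two_ne_zero, h.order,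
        Nat.gcd_eq_right ⟨2 * q, by ring⟩, show 4 * q = 2 * q * 2 by ring, Nat.mul_div_cancel _ two_pos]
      obtain ⟨a, ha⟩ := hqe
      have := h.q_pos
      omega
    obtain ⟨c, hc⟩ := card_dvd_of_le hle
    rw [Nat.card_zpowers] at hc
    have hc2 : 2 ≤ c := by
      by_contra hlt
      have h0 : c ≠ 0 := by rintro rfl; exact Nat.card_pos.ne' (by rw [hc, mul_zero])
      have hc1 : c = 1 := by omega
      rw [hc1, mul_one] at hc
      have := eq_of_le_of_card_ge hle (by rw [Nat.card_zpowers, hc])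
      obtain ⟨i, hi⟩ := mem_zpowers_iff.1 (this ▸ hsR)
      exact h.sr (mem_zpowers_iff.2 ⟨2 * i, by rw [zpow_mul]; exact hi⟩)
    calc 8 = 4 * 2 := by norm_num
      _ ≤ orderOf (r ^ (2 : ℤ)) * c := Nat.mul_le_mul ho hc2
      _ = Nat.card R := hc.symm
  have hno : ∀ g : H, g * t * g⁻¹ ∉ M := by
    intro g hg
    haveI := h.ctx.normal
    have hgA : g * t * g⁻¹ ∉ A := fun k => h.ctx.tA (by
      have := h.ctx.conjA (g := g⁻¹) k
      rwa [show g⁻¹ * (g * t * g⁻¹) * g⁻¹⁻¹ = t by group] at this)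
    obtain ⟨k, hk⟩ : ∃ k : H, k * u * k⁻¹ = t := by
      rcases hD _ hg (by rw [show g * t * g⁻¹ * (g * t * g⁻¹) = g * (t * t) * g⁻¹ by group, h.ctx.t2]; group) hgA
        with e | e
      · exact ⟨g⁻¹, by rw [← e]; group⟩
      · refine ⟨g⁻¹ * r, ?_⟩
        rw [show g⁻¹ * r * u * (g⁻¹ * r)⁻¹ = g⁻¹ * (r * u * r⁻¹) * g by group, hru, ← e]; group
    have h4 := h.ctx.small (R.map (MulAut.conj k).toMonoidHom) (hR2.map _) ?_ ?_
    · rw [card_map_of_injective (MulAut.conj k).injective] at h4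
      omega
    · rintro _ ⟨w, hw, rfl⟩
      refine h.ctx.conjA ?_
      rcases (hR w).1 hw with ⟨i, rfl | rfl⟩
      exacts [zpow_mem (zpow_mem h.rA _) i, mul_mem (zpow_mem (zpow_mem h.rA _) i) h.sA]
    · rintro _ ⟨w, hw, rfl⟩
      rw [← hk]
      refine (Commute.map ?_ (MulAut.conj k).toMonoidHom)
      have hcu : ∀ i : ℤ, Commute ((r ^ (2 : ℤ)) ^ i) u := fun i => by
        rw [← zpow_mul]
        exact (mul_inv_eq_iff_eq_mul.1 (hur i)).symm
      rcases (hR w).1 hw with ⟨i, rfl | rfl⟩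
      exacts [hcu i, (hcu i).mul_left (mul_inv_eq_iff_eq_mul.1 hus).symm]
  have hpar := h.ctx.parity hMT h.ctx.tT htM hidx hno hu2 huA
  -- the fixed points
  set C := centralizer ({u} : Set H) with hC
  have huu : ∀ g : H, g⁻¹ * u * g ∈ M ↔ g⁻¹ * u * g = u ∨ g⁻¹ * u * g = z * u := by
    intro g
    refine ⟨fun k => hD _ k (by
      rw [show g⁻¹ * u * g * (g⁻¹ * u * g) = g⁻¹ * (u * u) * g by group, hu2]; group) fun k' => huA ?_, ?_⟩
    · have := h.ctx.conjA (g := g) k'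
      rwa [show g * (g⁻¹ * u * g) * g⁻¹ = u by group] at this
    · rintro (e | e) <;> rw [e]
      · exact huM
      · exact mul_mem ((hM z).2 ⟨2 * (q : ℤ), Or.inl h.ztop.symm⟩) huM
  have hcard : Nat.card {g : H // g⁻¹ * u * g ∈ M} = 2 * Nat.card C := by
    let f : C × Bool → {g : H // g⁻¹ * u * g ∈ M} := fun p => ⟨(p.1 : H) * cond p.2 r⁻¹ 1, by
      rw [huu]
      have hp := mem_centralizer_singleton_iff.1 p.1.2
      have hp' : (p.1 : H)⁻¹ * u * p.1 = u := by rw [mul_assoc, ← hp, inv_mul_cancel_left]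
      cases p.2
      · left; simpa using hp'
      · right
        simp only [cond_true]
        rw [show ((p.1 : H) * r⁻¹)⁻¹ * u * ((p.1 : H) * r⁻¹) = r * ((p.1 : H)⁻¹ * u * p.1) * r⁻¹ by group,
          hp', hru]⟩
    have hf : Function.Bijective f := by
      constructor
      · rintro ⟨c₁, b₁⟩ ⟨c₂, b₂⟩ e
        have e' : (c₁ : H) * cond b₁ r⁻¹ 1 = (c₂ : H) * cond b₂ r⁻¹ 1 := congrArg Subtype.val e
        have hb : b₁ = b₂ := by
          have hrC : ∀ c : C, (c : H) ≠ r⁻¹ ∧ (c : H) ≠ r := fun c => by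
            constructor <;> intro ec <;> have hc := mem_centralizer_singleton_iff.1 c.2 <;> rw [ec] at hc
            · have hne : r * u * r⁻¹ = u := by
                rw [mul_inv_eq_iff_eq_mul]
                calc r * u = r * (u * r⁻¹) * r := by group
                  _ = u * r := by rw [← hc]; group
              rw [hru] at hne; exact h.ctx.x2_ne (mul_eq_right.1 hne)
            · have hne : r * u * r⁻¹ = u := mul_inv_eq_iff_eq_mul.2 hc
              rw [hru] at hne; exact h.ctx.x2_ne (mul_eq_right.1 hne)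
          cases b₁ <;> cases b₂ <;> simp only [cond_true, cond_false, mul_one] at e'
          · rfl
          · exact absurd (by rw [Subgroup.coe_mul, Subgroup.coe_inv, e', inv_mul_cancel_left] :
              ((c₂⁻¹ * c₁ : C) : H) = r⁻¹) (hrC _).1
          · exact absurd (by rw [Subgroup.coe_mul, Subgroup.coe_inv, ← e', inv_mul_cancel_left] :
              ((c₁⁻¹ * c₂ : C) : H) = r⁻¹) (hrC _).1
          · rfl
        subst hb
        exact Prod.ext (Subtype.ext (mul_right_cancel e')) rfl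
      · rintro ⟨g, hg⟩
        rcases (huu g).1 hg with e | e
        · exact ⟨⟨⟨g, mem_centralizer_singleton_iff.2 (by nth_rw 1 [← e]; group)⟩, false⟩, Subtype.ext (mul_one g)⟩
        · have hgr : (g * r)⁻¹ * u * (g * r) = u := by
            rw [show (g * r)⁻¹ * u * (g * r) = r⁻¹ * (g⁻¹ * u * g) * r by group, e, ← hru]; group
          exact ⟨⟨⟨g * r, mem_centralizer_singleton_iff.2 (by nth_rw 1 [← hgr]; group)⟩, true⟩,
            Subtype.ext (mul_inv_cancel_right g r)⟩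
    rw [← Nat.card_congr (Equiv.ofBijective f hf), Nat.card_prod, Nat.card_eq_fintype_card (α := Bool),
      Fintype.card_bool, mul_comm]
  have hMcard : Nat.card (T : Subgroup H) = 2 * Nat.card M := by
    have hrel : (M.subgroupOf (T : Subgroup H)).index = 2 := index_eq_two_iff.2 ⟨⟨t, h.ctx.tT⟩, fun b => by
      simp only [mem_subgroupOf, Subgroup.coe_mul]
      rcases hidx b b.2 with k | k
      · exact Or.inr ⟨k, fun k' => htM ((M.mul_mem_cancel_left k).1 k')⟩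
      · exact Or.inl ⟨k, fun k' => htM ((M.mul_mem_cancel_left k').1 k)⟩⟩
    have h1 := (M.subgroupOf (T : Subgroup H)).card_mul_index
    rw [hrel, Nat.card_congr (subgroupOfEquivOfLe hMT).toEquiv, mul_comm] at h1
    exact h1.symm
  have hTC : Nat.card (T : Subgroup H) ∣ Nat.card C := by
    rw [hcard, show 4 * Nat.card M = 2 * (2 * Nat.card M) by ring, ← hMcard] at hpar
    exact Nat.dvd_of_mul_dvd_mul_left two_pos hpar
  obtain ⟨e, he⟩ := IsPGroup.iff_card.1 T.2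
  obtain ⟨Q, hQ⟩ := Sylow.exists_subgroup_card_pow_prime (G := C) 2 (n := e) (he ▸ hTC)
  have hQ2 : IsPGroup 2 (Q.map C.subtype) := IsPGroup.of_card (n := e) (by
    rw [card_map_of_injective C.subtype_injective, hQ])
  obtain ⟨T', hT'⟩ := hQ2.exists_le_sylow
  obtain ⟨g, hg⟩ := MulAction.exists_smul_eq H T' T
  have hT'C : (T' : Subgroup H) ≤ C := by
    have := eq_of_le_of_card_ge hT' (by
      rw [card_map_of_injective C.subtype_injective, hQ, ← he]
      exact le_of_eq (Nat.card_congr (T'.equiv T).toEquiv))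
    rw [← this]
    exact map_subtype_le _
  set u' := g * u * g⁻¹ with hu'
  have hcen : ∀ w ∈ (T : Subgroup H), Commute w u' := by
    intro w hw
    rw [← hg] at hw
    obtain ⟨w', hw', rfl⟩ := hw
    exact (show Commute w' u from mem_centralizer_singleton_iff.1 (hT'C hw')).map (MulAut.conj g).toMonoidHom
  have hu'2 : u' * u' = 1 := by
    rw [hu', show g * u * g⁻¹ * (g * u * g⁻¹) = g * (u * u) * g⁻¹ by group, hu2]; group
  have hu'T : u' ∈ (T : Subgroup H) := by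
    have hp : IsPGroup 2 (zpowers u') := IsPGroup.of_card_dvd_pow (n := 1) (by
      rw [Nat.card_zpowers]; exact orderOf_dvd_of_pow_eq_one (by rw [pow_one, pow_two, hu'2]))
    have hn : (T : Subgroup H) ≤ normalizer (zpowers u' : Set H) := fun w hw => by
      rw [mem_normalizer_iff_map_conj_eq, MonoidHom.map_zpowers]
      show zpowers (w * u' * w⁻¹) = _
      rw [(hcen w hw).eq, mul_inv_cancel_right]
    rw [← T.3 (T.2.to_sup_of_normal_right' hp hn) le_sup_left]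
    exact mem_sup_right (mem_zpowers u')
  have hu'A : u' ∉ A := fun k => huA (by
    have := h.ctx.conjA (g := g⁻¹) k
    rwa [hu', show g⁻¹ * (g * u * g⁻¹) * g⁻¹⁻¹ = u by group] at this)
  have hut : Commute u' t := (hcen t h.ctx.tT).symm
  have hw : u' * t ∈ zpowers x := h.ctx.cent _ (mul_mem hu'T h.ctx.tT) ((h.ctx.idx u').resolve_left hu'A)
    (hut.mul_left (Commute.refl t))
  have hwr : Commute (u' * t) r := by
    have hw2 : u' * t * (u' * t) = 1 := by rw [hut.symm.mul_mul_mul_comm, hu'2, h.ctx.t2, one_mul]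
    by_cases h1 : u' * t = 1
    · rw [h1]; exact Commute.one_left r
    · rw [invol_unique hw (mul_mem (mem_zpowers x) (mem_zpowers x)) hw2 h.ctx.x2_sq h1 h.ctx.x2_ne]
      exact (h.zc r h.rT).symm
  have htr : Commute t r := by
    have := ((hcen r h.rT).symm.inv_left).mul_left hwr
    rwa [inv_mul_cancel_left] at this
  rw [htr.eq, mul_assoc, h.ctx.t2, mul_one] at hκ1
  nth_rw 1 [← zpow_one r] at hκ1
  rw [h.eq_iff] at hκ1
  have : 4 * (q : ℤ) ≤ 2 := Int.le_of_dvd (by norm_num) hκ1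
  omega

theorem contradiction : False := by
  classical
  have hti : t⁻¹ = t := inv_eq_of_mul_eq_one_right h.ctx.t2
  obtain ⟨κ, m, hκ, hm, hκκ, hκm⟩ := h.t_data
  have hκi : ∀ i : ℤ, t * r ^ i * t = r ^ (κ * i) := fun i => by
    nth_rw 2 [← hti]
    rw [← conj_zpow, hti, hκ, zpow_mul]
  have hfix : ∀ g : H, t * g * t = g → Commute g t := fun g e => by
    show g * t = t * g
    nth_rw 1 [← e]
    rw [mul_assoc, h.ctx.t2, mul_one]
  have hcast : (0 : ℤ) < q := by exact_mod_cast h.q_pos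
  have hκodd : Odd κ := by
    obtain ⟨a, ha⟩ := hκκ
    rcases Int.even_or_odd κ with ⟨b, hb⟩ | k
    · exfalso
      rw [hb] at ha
      have : 2 * (2 * (b * b) - 2 * ((q : ℤ) * a)) = 1 := by linarith
      omega
    · exact k
  by_cases h1 : (4 : ℤ) ∣ κ - 1
  · -- the element of order four of `⟨r⟩` is fixed
    obtain ⟨i, hi⟩ := h1
    have hd1 : 2 * (q : ℤ) ∣ κ - 1 := h.dvd_half (b := 2 * i + 1) ⟨i, rfl⟩ (by
      rwa [show 2 * ((2 * i + 1) * (κ - 1)) = κ * κ - 1 by rw [show κ = 4 * i + 1 by omega]; ring])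
    have hd2 : 2 * (q : ℤ) ∣ m := h.dvd_half (b := 2 * i + 1) ⟨i, rfl⟩ (by
      rwa [show 2 * ((2 * i + 1) * m) = κ * m + m by rw [show κ = 4 * i + 1 by omega]; ring])
    have hw : zpowers (r ^ (q : ℤ)) = zpowers x := by
      have hfw : r ^ (q : ℤ) ∈ zpowers x := h.ctx.cent _ (zpow_mem h.rT _) (zpow_mem h.rA _) (hfix _ (by
        rw [hκi, h.eq_iff]
        exact ⟨i, by rw [show κ = 4 * i + 1 by omega]; ring⟩))
      refine eq_of_le_of_card_ge (zpowers_le.2 hfw) ?_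
      rw [Nat.card_zpowers, Nat.card_zpowers, h.ctx.x4]
      have := orderOf_of_top (u := r ^ (q : ℤ)) (q := 1) ⟨0, rfl⟩ h.ctx.x2_sq h.ctx.x2_ne (by
        rw [zpow_natCast, ← pow_mul, mul_one, mul_comm, h.top])
      omega
    have hfr : ∀ g ∈ (T : Subgroup H), g ∈ A → t * g * t = g → g ∈ zpowers r := fun g hg hgA e => by
      have := h.ctx.cent g hg hgA (hfix g e)
      rw [← hw] at this
      exact zpowers_le.2 (zpow_mem (mem_zpowers r) _) this
    obtain ⟨dm, hdm⟩ := hd2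
    have hmz : r ^ m = x * x := by
      rcases Int.even_or_odd dm with k | k
      · exfalso
        refine h.sr (hfr s h.sT h.sA ?_)
        rw [hm, hdm, zpow_mul, h.ztop, (zpow_of_sq h.ctx.x2_sq dm).1 k, one_mul]
      · rw [hdm, zpow_mul, h.ztop, (zpow_of_sq h.ctx.x2_sq dm).2 k]
    obtain ⟨dk, hdk⟩ := hd1
    have hκ1 : t * r * t = r := by
      rcases Int.even_or_odd dk with k | k
      · rw [hκ, show κ = 2 * (q : ℤ) * dk + 1 by omega, zpow_add, zpow_mul, h.ztop,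
          (zpow_of_sq h.ctx.x2_sq dk).1 k, one_mul, zpow_one]
      · exfalso
        have hrs := hfr (r * s) (mul_mem h.rT h.sT) (mul_mem h.rA h.sA) (by
          rw [show t * (r * s) * t = t * r * (t * t) * s * t by rw [h.ctx.t2]; group,
            show t * r * (t * t) * s * t = (t * r * t) * (t * s * t) by group, hκ, hm, hmz,
            show κ = 1 + 2 * (q : ℤ) * dk by omega, zpow_add, zpow_mul, h.ztop,
            (zpow_of_sq h.ctx.x2_sq dk).2 k, zpow_one, ← mul_assoc, mul_assoc r, h.ctx.x2_sq, mul_one])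
        obtain ⟨j, hj⟩ := mem_zpowers_iff.1 hrs
        exact h.out 1 j (by rw [zpow_one]; exact hj.symm)
    have hrx : r ∈ zpowers x := h.ctx.cent r h.rT h.rA (hfix r hκ1)
    have hq1 : q = 1 := by
      have h4 := Subgroup.orderOf_dvd_natCard _ hrx
      rw [Nat.card_zpowers, h.ctx.x4, h.order] at h4
      have := Nat.le_of_dvd (by norm_num) h4
      have := h.q_pos
      omega
    refine h.no_y (y := r * t) (mul_mem h.rT h.ctx.tT) ?_ ?_
    · have hr2 : r ^ (2 : ℤ) = x * x := by rw [← h.ztop, hq1]; rfl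
      have e : r ^ (1 : ℤ) * (r ^ (2 : ℤ) * (s * r ^ (-1 : ℤ))) = r ^ (0 : ℤ) * s := by
        rw [h.sr_pow, ← mul_assoc, ← mul_assoc, ← zpow_add, ← zpow_add]
        congr 1
        rw [h.eq_iff, hq1]
        obtain ⟨a, ha⟩ := h.four
        exact ⟨1 - a, by push_cast; omega⟩
      rw [show r * t * s * (r * t)⁻¹ = r * (t * s * t⁻¹) * r⁻¹ by group, hti, hm, hmz, ← hr2]
      simpa [mul_assoc] using e
    · rw [show r * t * (r * t) = r * (t * r * t) by group, hκ1, ← h.ztop, hq1, ← zpow_one r, ← zpow_add]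
      group
  · obtain ⟨i, hi⟩ : (4 : ℤ) ∣ κ + 1 := by
      obtain ⟨a, ha⟩ := hκodd
      omega
    have hd1 : 2 * (q : ℤ) ∣ κ + 1 := h.dvd_half (b := 2 * i - 1) ⟨i - 1, by ring⟩ (by
      rwa [show 2 * ((2 * i - 1) * (κ + 1)) = κ * κ - 1 by rw [show κ = 4 * i - 1 by omega]; ring])
    have hxfix : t * x * t = x := by rw [← h.ctx.xt.eq, mul_assoc, h.ctx.t2, mul_one]
    obtain ⟨k, e | e⟩ := h.form x h.ctx.xT h.ctx.xA
    · refine h.ctx.x2_ne ?_
      have hk := hxfix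
      rw [e, hκi, h.eq_iff] at hk
      have : 2 * (q : ℤ) ∣ k := h.dvd_half (b := 2 * i - 1) ⟨i - 1, by ring⟩ (by
        rwa [show 2 * ((2 * i - 1) * k) = κ * k - k by rw [show κ = 4 * i - 1 by omega]; ring])
      obtain ⟨j, hj⟩ := this
      rw [e, ← zpow_add, h.one_iff, hj]
      exact ⟨j, by ring⟩
    · -- `x = r^k s` with `k` odd: change the generator
      have hkodd : Odd k := by
        rcases Int.even_or_odd k with ⟨j, hj⟩ | k'
        · exfalso
          refine h.ctx.x2_ne ?_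
          rw [e, show r ^ k * s * (r ^ k * s) = r ^ k * (s * r ^ k) * s by group, h.sr_pow, mul_assoc,
            mul_assoc (r ^ (ε * k)), h.s2, mul_one, ← zpow_add, h.one_iff]
          obtain ⟨a, ha⟩ := h.near
          exact ⟨a * j, by rw [show k + ε * k = (ε + 1) * k by ring, ha, hj]; ring⟩
        · exact k'
      have htop' : (r ^ k) ^ (2 * q) = x * x := by
        rw [← zpow_natCast, ← zpow_mul, mul_comm, zpow_mul, zpow_natCast, h.top,
          (zpow_of_sq h.ctx.x2_sq k).2 hkodd]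
      have hz' : zpowers (r ^ k) = zpowers r := eq_of_le_of_card_ge (zpowers_le.2 (zpow_mem (mem_zpowers r) k)) (by
        rw [Nat.card_zpowers, Nat.card_zpowers, h.order,
          orderOf_of_top h.q_two h.ctx.x2_sq h.ctx.x2_ne htop'])
      have hrk : ∀ i : ℤ, ∃ j : ℤ, r ^ i = (r ^ k) ^ j := fun i => by
        obtain ⟨j, hj⟩ := mem_zpowers_iff.1 (hz'.symm ▸ zpow_mem (mem_zpowers r) i)
        exact ⟨j, hj.symm⟩
      have h' : Max A T t x (r ^ k) s q ε :=
        { ctx := h.ctx, q_two := h.q_two, top := htop', rT := zpow_mem h.rT k, rA := zpow_mem h.rA k,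
          sT := h.sT, sA := h.sA, s2 := h.s2, sr := by rw [hz']; exact h.sr
          form := fun g hg hgA => by
            obtain ⟨i, e' | e'⟩ := h.form g hg hgA <;> obtain ⟨j, hj⟩ := hrk i
            exacts [⟨j, Or.inl (e'.trans hj)⟩, ⟨j, Or.inr (by rw [e', hj])⟩]
          conj_s := by rw [← conj_zpow, h.conj_s, ← zpow_mul, ← zpow_mul, mul_comm]
          four := h.four, near := h.near
          norm := fun g hg => by
            obtain ⟨l, hl⟩ := h.norm g hg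
            exact ⟨l, by rw [← conj_zpow, hl, ← zpow_mul, ← zpow_mul, mul_comm]⟩ }
      exact h'.no_semi e (κ := κ) (by rw [hκi, ← zpow_mul, mul_comm]) hd1

end Max

end Cfsg.Agent.SemiRankOne.Ctx
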