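import Mathlib
import Cfsg.Agent.Lib.SemiRankOne.MaxCase
import Cfsg.Agent.Lib.SemiRankOne.FourCase
import Cfsg.Agent.Lib.Components.FourActionStructure
import Cfsg.Agent.Lib.Components.Basic
import Cfsg.Agent.S0205

/-!
A semisimple group with an involution whose centralizer has cyclic Sylow 2-subgroups of order four
has one class of involutions in each Sylow subgroup.
-/

set_option autoImplicit false
set_option linter.all false

namespace Cfsg.Agent.SemiRankOne

open Subgroup

universe u

section

variable {H : Type u} [Group H] [Finite H] {A : Subgroup H} {T : Sylow 2 H} {t x : H}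

/-- Two commuting involutions of `A` coincide. -/
theorem Ctx.rank_one (h : Ctx A T t x) {a b : H} (ha : a ∈ A) (hb : b ∈ A) (hab : a * b = b * a)
    (ha2 : a * a = 1) (hb2 : b * b = 1) (ha1 : a ≠ 1) (hb1 : b ≠ 1) : a = b := by
  haveI : Fact (Nat.Prime 2) := ⟨Nat.prime_two⟩
  haveI := h.normal
  set Tg := (T : Subgroup H) with hTg
  haveI : (A.subgroupOf Tg).Normal := h.normal.subgroupOf _
  have hsqc : ∀ (g : H) {c : H}, c * c = 1 → g * c * g⁻¹ * (g * c * g⁻¹) = 1 := fun g c hc => by
    rw [show g * c * g⁻¹ * (g * c * g⁻¹) = g * (c * c) * g⁻¹ by group, hc]; group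
  rcases Components.FourAction.structure_of_no_four (T := ↥Tg) T.2 (A.subgroupOf Tg)
      (fun a b ha hb ha1 hb1 hne ha2 hb2 hcomm hac hbc => by
        have hax : (a : H) = x * x :=
          h.fixed_invol a.2 ha (congrArg Subtype.val (hac ⟨t, h.tT⟩)).symm (congrArg Subtype.val ha2)
            fun k => ha1 (Subtype.ext k)
        refine Ctx.NormFour.contradiction (e := (b : H))
          { ctx := h, eT := b.2, eA := hb, e2 := congrArg Subtype.val hb2,
            e1 := fun k => hb1 (Subtype.ext k), ez := fun k => hne (Subtype.ext (hax.trans k.symm)),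
            zc := fun w hw => hax ▸ congrArg Subtype.val (hac ⟨w, hw⟩),
            move := fun w hw => ?_ }
        rcases hbc ⟨w, hw⟩ with k | k
        · exact Or.inl (congrArg Subtype.val k)
        · refine Or.inr ((congrArg Subtype.val k).trans ?_)
          rw [← hax]; exact congrArg Subtype.val hcomm) with hone | ⟨r', s', n, ε, hM⟩
  · obtain ⟨S, hS⟩ := (Components.FourAction.pair_isPGroup hab ha2 hb2).exists_le_sylow
    obtain ⟨g, hg⟩ := MulAction.exists_smul_eq H S T
    have hmv : ∀ c ∈ ({a, b} : Set H), g * c * g⁻¹ ∈ Tg := by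
      intro c hc
      have hc' : c ∈ (S : Subgroup H) := hS (subset_closure hc)
      rw [hTg, ← hg, Sylow.coe_subgroup_smul]
      exact mem_map_of_mem _ hc'
    have k := hone ⟨_, hmv a (by simp)⟩ (h.conjA ha) ⟨_, hmv b (by simp)⟩ (h.conjA hb)
      (Subtype.ext (hsqc g ha2)) (Subtype.ext (hsqc g hb2))
      (fun e => ha1 (conj_eq_one_iff.1 (congrArg Subtype.val e)))
      (fun e => hb1 (conj_eq_one_iff.1 (congrArg Subtype.val e)))
    exact mul_left_cancel (mul_right_cancel (congrArg Subtype.val k))
  · exfalso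
    have hn := hM.two_le
    set r := (r' : H) with hr'
    set q := 2 ^ (n - 2) with hq
    have h2q : 2 * q = 2 ^ (n - 1) := by rw [hq, ← pow_succ']; congr 1; omega
    have h4q : 2 * q + 2 * q = 2 ^ n := by
      rw [h2q, ← two_mul, ← pow_succ']; congr 1; omega
    have hord : orderOf r = 2 ^ n := by rw [hr', Subgroup.orderOf_coe]; exact hM.order
    have hpow : ∀ (c : ↥Tg) (k : ℤ), ((c ^ k : ↥Tg) : H) = (c : H) ^ k := fun c k => by norm_cast
    have hmem : ∀ c : ↥Tg, c ∈ zpowers r' → (c : H) ∈ zpowers r := by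
      rintro c ⟨k, rfl⟩; exact ⟨k, (hpow r' k).symm⟩
    have hnorm : ∀ g ∈ Tg, ∃ k : ℤ, g * r * g⁻¹ = r ^ k := fun g hg => by
      obtain ⟨k, hk⟩ := hM.norm ⟨g, hg⟩
      exact ⟨k, (congrArg Subtype.val hk).trans (hpow r' k)⟩
    have hz2 : r ^ (2 * q) * r ^ (2 * q) = 1 := by
      rw [← pow_add, h4q, ← hord, pow_orderOf_eq_one]
    have hz1 : r ^ (2 * q) ≠ 1 := fun k => by
      have h1 := Nat.le_of_dvd (by rw [h2q]; positivity) (orderOf_dvd_of_pow_eq_one k)
      have : 0 < 2 * q := by rw [h2q]; positivity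
      rw [hord, ← h4q] at h1
      omega
    have hzt : Commute (r ^ (2 * q)) t := by
      obtain ⟨k, hk⟩ := hnorm t h.tT
      have h1 : t * r ^ (2 * q) * t⁻¹ = r ^ (2 * q) := invol_unique (d := r)
        (by rw [← conj_pow, hk]; exact pow_mem (zpow_mem (mem_zpowers r) k) _) (pow_mem (mem_zpowers r) _)
        (hsqc t hz2) hz2 (fun e => hz1 (conj_eq_one_iff.1 e)) hz1
      exact (mul_inv_eq_iff_eq_mul.1 h1).symm
    have hs2 : (s' : H) * s' = 1 := congrArg Subtype.val hM.s_sq
    refine Ctx.Max.contradiction (r := r) (s := (s' : H)) (q := q) (ε := ε)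
      { ctx := h, q_two := ⟨n - 2, rfl⟩,
        top := h.fixed_invol (pow_mem r'.2 _) (pow_mem hM.rS _) hzt hz2 hz1,
        rT := r'.2, rA := hM.rS, sT := s'.2, sA := hM.sS, s2 := hs2,
        sr := fun e => hM.s_out ?_, form := fun g hg hgA => ?_,
        conj_s := (congrArg Subtype.val hM.conj_s).trans (hpow r' ε),
        four := hM.four, near := ?_, norm := hnorm }
    · obtain ⟨k, hk⟩ := e
      exact ⟨k, Subtype.ext ((hpow r' k).trans hk)⟩
    · rcases hM.index ⟨g, hg⟩ hgA with k | k
      · obtain ⟨i, hi⟩ := mem_zpowers_iff.1 (hmem _ k)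
        exact ⟨i, Or.inl hi.symm⟩
      · obtain ⟨i, hi⟩ := mem_zpowers_iff.1 (hmem _ k)
        refine ⟨i, Or.inr ?_⟩
        rw [hi, Subgroup.coe_mul, mul_assoc, hs2, mul_one]
    · have := hM.near
      rw [← h2q] at this
      push_cast at this
      exact this

end

/-- The layer of a group equal to it centralizes every solvable normal subgroup. -/
theorem solvCentral_of_layer {G : Type u} [Group G] [Finite G] (hG : Cfsg.layer G = ⊤) : SolvCentral G := by
  intro N hN hs
  have h : (⊤ : Subgroup G) ≤ centralizer (N : Set G) := hG ▸ Components.Basic.layer_le fun L hL =>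
    commutator_eq_bot_iff_le_centralizer.1
      (Components.Basic.component_commutator_eq_bot_of_isSolvable hL hN.isSubnormal hs)
  intro u hu
  exact mem_center_iff.2 fun g => ((mem_centralizer_iff.1 (h (mem_top g))) u hu).symm

/-- An equivalence carries `SolvCentral` along. -/
theorem solvCentral_of_mulEquiv {G G' : Type u} [Group G] [Group G'] (e : G' ≃* G) (h : SolvCentral G) :
    SolvCentral G' := by
  intro N hN hs
  haveI := hs
  have hs' : Group.IsSolvable ↥(N.map e.toMonoidHom) :=
    solvable_of_surjective (f := (e.toMonoidHom.subgroupMap N)) (MonoidHom.subgroupMap_surjective _ _)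
  intro u hu
  have := h _ (hN.map e.toMonoidHom e.surjective) hs' (mem_map_of_mem e.toMonoidHom hu)
  refine mem_center_iff.2 fun g => e.injective ?_
  rw [map_mul, map_mul]
  exact mem_center_iff.1 this (e g)

end Cfsg.Agent.SemiRankOne
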